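import Mathlib

/-!
Basic tools for pairs of `p`-elements in alternating groups: a solvability obstruction from two
three-cycles sharing a single point, transport of the "bad pair" property along homomorphisms, and
the decomposition of a long cycle (given by a list) along consecutive chunks.
-/

set_option autoImplicit false
set_option linter.unusedSectionVars false
set_option linter.unusedVariables false
set_option linter.unusedSimpArgs false

namespace Cfsg.Agent.Lib.AltPElt.Basic

open Equiv Equiv.Perm
open scoped commutatorElement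

universe u

/-- Two relations making a subgroup perfect. -/
theorem not_solvable_of_rel {G : Type*} [Group G] (H : Subgroup G) {t s : G} (ht : t ∈ H) (hs : s ∈ H)
    (h1 : t = ⁅t⁻¹, s * t * s⁻¹ * t⁻¹ * s⁆) (h2 : s = ⁅s⁻¹, t * s * t⁻¹ * s⁻¹ * t⁆) (hne : t ≠ 1) :
    ¬ Group.IsSolvable H := by
  intro hsol
  obtain ⟨n, hn⟩ := hsol.solvable
  have key : ∀ i, (⟨t, ht⟩ : H) ∈ derivedSeries H i ∧ (⟨s, hs⟩ : H) ∈ derivedSeries H i := by
    intro i
    induction i with
    | zero => simp [derivedSeries_zero]
    | succ i ih =>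
      obtain ⟨h3, h4⟩ := ih
      rw [derivedSeries_succ]
      have e1 : (⟨t, ht⟩ : H) = ⁅(⟨t, ht⟩ : H)⁻¹, (⟨s, hs⟩ : H) * ⟨t, ht⟩ * (⟨s, hs⟩ : H)⁻¹ * (⟨t, ht⟩ : H)⁻¹ * ⟨s, hs⟩⁆ :=
        Subtype.ext h1
      have e2 : (⟨s, hs⟩ : H) = ⁅(⟨s, hs⟩ : H)⁻¹, (⟨t, ht⟩ : H) * ⟨s, hs⟩ * (⟨t, ht⟩ : H)⁻¹ * (⟨s, hs⟩ : H)⁻¹ * ⟨t, ht⟩⁆ :=
        Subtype.ext h2
      constructor
      · rw [e1]
        exact Subgroup.commutator_mem_commutator (inv_mem h3)
          (mul_mem (mul_mem (mul_mem (mul_mem h4 h3) (inv_mem h4)) (inv_mem h3)) h4)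
      · rw [e2]
        exact Subgroup.commutator_mem_commutator (inv_mem h4)
          (mul_mem (mul_mem (mul_mem (mul_mem h3 h4) (inv_mem h3)) (inv_mem h4)) h3)
  have := (key n).1
  rw [hn, Subgroup.mem_bot] at this
  exact hne (congrArg Subtype.val this)

variable {α : Type u} [DecidableEq α]

theorem via_swap [Fintype α] (e : Fin 5 ↪ α) (i j : Fin 5) :
    viaEmbeddingHom e (swap i j) = swap (e i) (e j) := by
  classical
  ext x
  rw [viaEmbeddingHom_apply]
  by_cases hx : x ∈ Set.range e
  · obtain ⟨y, rfl⟩ := hx
    rw [viaEmbedding_apply]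
    simp only [swap_apply_def, e.injective.eq_iff]
    split_ifs <;> rfl
  · rw [viaEmbedding_apply_of_notMem _ _ _ hx]
    have h1 : x ≠ e i := fun h => hx ⟨i, h.symm⟩
    have h2 : x ≠ e j := fun h => hx ⟨j, h.symm⟩
    rw [swap_apply_of_ne_of_ne h1 h2]

set_option maxRecDepth 100000 in
/-- A subgroup of a symmetric group containing two three-cycles sharing exactly one point is not
solvable. -/
theorem not_solvable_of_cycles [Fintype α] (H : Subgroup (Perm α)) (e : Fin 5 → α) (he : Function.Injective e)
    (h1 : swap (e 0) (e 1) * swap (e 1) (e 2) ∈ H) (h2 : swap (e 2) (e 3) * swap (e 3) (e 4) ∈ H) :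
    ¬ Group.IsSolvable H := by
  classical
  let E : Fin 5 ↪ α := ⟨e, he⟩
  let t : Perm (Fin 5) := swap 0 1 * swap 1 2
  let s : Perm (Fin 5) := swap 2 3 * swap 3 4
  have ht : viaEmbeddingHom E t = swap (e 0) (e 1) * swap (e 1) (e 2) := by
    simp only [t, map_mul, via_swap]; rfl
  have hs : viaEmbeddingHom E s = swap (e 2) (e 3) * swap (e 3) (e 4) := by
    simp only [s, map_mul, via_swap]; rfl
  have r1 : t = ⁅t⁻¹, s * t * s⁻¹ * t⁻¹ * s⁆ := by decide
  have r2 : s = ⁅s⁻¹, t * s * t⁻¹ * s⁻¹ * t⁆ := by decide
  have hne : viaEmbeddingHom E t ≠ 1 := by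
    rw [Ne, ← map_one (viaEmbeddingHom E), (viaEmbeddingHom_injective E).eq_iff]
    decide
  refine not_solvable_of_rel H (t := viaEmbeddingHom E t) (s := viaEmbeddingHom E s) (ht ▸ h1) (hs ▸ h2) ?_ ?_ hne
  · conv_lhs => rw [r1]
    simp only [map_commutatorElement, map_mul, map_inv]
  · conv_lhs => rw [r2]
    simp only [map_commutatorElement, map_mul, map_inv]

/-! ### Bad pairs -/

/-- The property we are after. -/
def Bad {G : Type*} [Group G] (p : ℕ) (a b : G) : Prop :=
  ¬ Group.IsSolvable ↥(Subgroup.closure ({a, b} : Set G)) ∧ ¬ ∃ k : ℕ, orderOf (a * b) = p ^ k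

theorem bad_of_hom {G G' : Type*} [Group G] [Group G'] (f : G →* G') {p : ℕ} (hp : p.Prime) {a b : G}
    (h : Bad p (f a) (f b)) : Bad p a b := by
  constructor
  · intro hs
    apply h.1
    have e : Subgroup.closure ({f a, f b} : Set G') = (Subgroup.closure ({a, b} : Set G)).map f := by
      rw [MonoidHom.map_closure, Set.image_pair]
    rw [e]
    exact Group.isSolvable_of_surjective (f := f.subgroupMap _) (f.subgroupMap_surjective _)
  · rintro ⟨k, hk⟩
    apply h.2
    have hd : orderOf (f a * f b) ∣ p ^ k := by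
      rw [← hk, ← map_mul]
      exact orderOf_map_dvd f _
    obtain ⟨j, -, hj⟩ := (Nat.dvd_prime_pow hp).1 hd
    exact ⟨j, hj⟩

theorem bad_map_inj {G G' : Type*} [Group G] [Group G'] (f : G →* G') (hf : Function.Injective f) {p : ℕ}
    {a b : G} (h : Bad p a b) : Bad p (f a) (f b) := by
  constructor
  · intro hs
    apply h.1
    have e : Subgroup.closure ({f a, f b} : Set G') = (Subgroup.closure ({a, b} : Set G)).map f := by
      rw [MonoidHom.map_closure, Set.image_pair]
    rw [e] at hs
    exact Group.isSolvable_of_isSolvable_injective (f := f.subgroupMap _) (by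
      intro x y hxy
      apply Subtype.ext
      apply hf
      exact congrArg Subtype.val hxy)
  · rintro ⟨k, hk⟩
    apply h.2
    rw [← map_mul, orderOf_injective f hf] at hk
    exact ⟨k, hk⟩

/-! ### Chunks of a long cycle -/

open List

theorem swap_formPerm_conj {a d : α} (R : List α) (hne : a ≠ d) (ha : a ∉ R) (hd : d ∉ R) :
    swap a d * formPerm (d :: R) = formPerm (a :: R) * swap a d := by
  cases R with
  | nil => simp
  | cons r R' =>
    simp only [formPerm_cons_cons]
    have ha' : a ∉ r :: R' := ha
    have hd' : d ∉ r :: R' := hd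
    have hra : a ≠ r := fun h => ha (by simp [h])
    have hrd : d ≠ r := fun h => hd (by simp [h])
    have hcomm : formPerm (r :: R') * swap a d = swap a d * formPerm (r :: R') := by
      ext x
      simp only [Perm.mul_apply]
      by_cases h1 : x = a
      · subst h1
        rw [swap_apply_left, formPerm_apply_of_notMem hd', formPerm_apply_of_notMem ha', swap_apply_left]
      by_cases h2 : x = d
      · subst h2
        rw [swap_apply_right, formPerm_apply_of_notMem ha', formPerm_apply_of_notMem hd', swap_apply_right]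
      rw [swap_apply_of_ne_of_ne h1 h2]
      have h3 : formPerm (r :: R') x ≠ a := by
        intro h
        have : formPerm (r :: R') x = formPerm (r :: R') a := by rw [h, formPerm_apply_of_notMem ha']
        exact h1 ((formPerm (r :: R')).injective this)
      have h4 : formPerm (r :: R') x ≠ d := by
        intro h
        have : formPerm (r :: R') x = formPerm (r :: R') d := by rw [h, formPerm_apply_of_notMem hd']
        exact h2 ((formPerm (r :: R')).injective this)
      rw [swap_apply_of_ne_of_ne h3 h4]
    rw [mul_assoc (swap a r), hcomm, ← mul_assoc, ← mul_assoc]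
    congr 1
    ext x
    simp only [Perm.mul_apply, swap_apply_def]
    split_ifs <;> simp_all

/-- Splitting off an initial arc of a long cycle. -/
theorem formPerm_arc (l₁ : List α) : ∀ (a : α) (R : List α), (a :: (l₁ ++ R)).Nodup →
    formPerm (a :: (l₁ ++ R)) = formPerm (a :: R) * formPerm (a :: l₁) := by
  induction l₁ with
  | nil => intro a R _; simp
  | cons d l' ih =>
    intro a R h
    have h' : (d :: (l' ++ R)).Nodup := (List.nodup_cons.1 h).2
    have hne : a ≠ d := fun e => (List.nodup_cons.1 h).1 (by simp [e])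
    have haR : a ∉ R := fun hh => (List.nodup_cons.1 h).1 (by simp [hh])
    have hdR : d ∉ R := fun hh => (List.nodup_cons.1 h').1 (by simp [hh])
    show formPerm (a :: d :: (l' ++ R)) = _
    rw [formPerm_cons_cons, ih d R h', ← mul_assoc, swap_formPerm_conj R hne haR hdR, formPerm_cons_cons, mul_assoc]

/-- Splitting off an arc of a long cycle in the middle of the list. -/
theorem formPerm_arc' (P l₁ R : List α) (a : α) (h : (P ++ a :: (l₁ ++ R)).Nodup) :
    formPerm (P ++ a :: (l₁ ++ R)) = formPerm (P ++ a :: R) * formPerm (a :: l₁) := by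
  have h1 : (a :: (l₁ ++ (R ++ P))).Nodup := by
    have : (P ++ a :: (l₁ ++ R)) ~r (a :: (l₁ ++ R)) ++ P := isRotated_append
    have h2 := (this.nodup_iff).1 h
    simpa [List.append_assoc] using h2
  have e1 : formPerm (P ++ a :: (l₁ ++ R)) = formPerm (a :: (l₁ ++ (R ++ P))) := by
    have : (P ++ a :: (l₁ ++ R)) ~r (a :: (l₁ ++ R)) ++ P := isRotated_append
    rw [formPerm_eq_of_isRotated h this]
    simp [List.append_assoc]
  have h3 : (P ++ a :: R).Nodup := by
    refine List.Sublist.nodup ?_ h
    refine List.Sublist.append_left ?_ P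
    refine List.Sublist.cons_cons a ?_
    exact List.sublist_append_right _ _
  have e2 : formPerm (P ++ a :: R) = formPerm (a :: (R ++ P)) := by
    have : (P ++ a :: R) ~r (a :: R) ++ P := isRotated_append
    rw [formPerm_eq_of_isRotated h3 this]
    simp [List.append_assoc]
  rw [e1, e2, formPerm_arc l₁ a (R ++ P) h1]

theorem formPerm_support_mem [Fintype α] (l : List α) (x : α) (h : formPerm l x ≠ x) : x ∈ l :=
  mem_of_formPerm_apply_ne h

theorem cycleType_formPerm' [Fintype α] {l : List α} (hl : l.Nodup) (hn : 2 ≤ l.length) :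
    (formPerm l).cycleType = {l.length} := by
  rw [(isCycle_formPerm hl hn).cycleType, support_formPerm_of_nodup l hl, List.card_toFinset,
    List.dedup_eq_self.mpr hl]
  intro x h
  simp [h] at hn

/-- One step of the decomposition along chunks. -/
theorem chunk_step [Fintype α] (P : List α) (a : α) (l₁ rest st : List α) (v' : Perm α) (M : Multiset ℕ)
    (hn : (P ++ a :: (l₁ ++ rest)).Nodup)
    (h3 : formPerm (P ++ [a] ++ rest) * v' = formPerm (P ++ [a] ++ st))
    (h4 : v'.cycleType = M) (h5 : ∀ x, v' x ≠ x → x ∈ rest) :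
    formPerm (P ++ a :: (l₁ ++ rest)) * ((formPerm (a :: l₁))⁻¹ * v') = formPerm (P ++ a :: st) ∧
      ((formPerm (a :: l₁))⁻¹ * v').cycleType = (if 2 ≤ l₁.length + 1 then {l₁.length + 1} else 0) + M ∧
      ∀ x, ((formPerm (a :: l₁))⁻¹ * v') x ≠ x → x ∈ a :: (l₁ ++ rest) := by
  have hb2 : (a :: (l₁ ++ rest)).Nodup := List.Nodup.of_append_right hn
  have hfix : ∀ y ∈ rest, formPerm (a :: l₁) y = y := by
    intro y hy
    apply formPerm_apply_of_notMem
    intro hy'
    have : (a :: l₁ ++ rest).Nodup := hb2
    exact (List.nodup_append.1 this).2.2 y hy' y hy rfl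
  refine ⟨?_, ?_, ?_⟩
  · rw [formPerm_arc' P l₁ rest a hn, mul_assoc, ← mul_assoc (formPerm (a :: l₁)), mul_inv_cancel, one_mul]
    have e1 : P ++ [a] ++ rest = P ++ a :: rest := by simp
    have e2 : P ++ [a] ++ st = P ++ a :: st := by simp
    rw [e1, e2] at h3
    exact h3
  · have hdis : Equiv.Perm.Disjoint (formPerm (a :: l₁))⁻¹ v' := by
      rw [Equiv.Perm.disjoint_inv_left_iff]
      intro x
      by_cases hx : x ∈ rest
      · left
        exact hfix x hx
      · right
        by_contra hv
        exact hx (h5 x hv)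
    rw [Equiv.Perm.Disjoint.cycleType_mul hdis, Equiv.Perm.cycleType_inv, h4]
    have hnd : (a :: l₁).Nodup := by
      refine List.Sublist.nodup ?_ hb2
      have : (a :: l₁) <+ (a :: l₁ ++ rest) := List.sublist_append_left _ _
      exact this
    by_cases hl2 : 2 ≤ l₁.length + 1
    · rw [cycleType_formPerm' hnd (by simpa using hl2), if_pos hl2]
      simp
    · have hl0 : l₁ = [] := by
        apply List.eq_nil_of_length_eq_zero
        omega
      subst hl0
      simp
  · intro x hx
    by_cases hv : v' x = x
    · have h6 : (formPerm (a :: l₁))⁻¹ x ≠ x := by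
        rw [Perm.mul_apply, hv] at hx
        exact hx
      have h7 : formPerm (a :: l₁) x ≠ x := by
        intro h
        apply h6
        rw [Perm.inv_eq_iff_eq, h]
      have := mem_of_formPerm_apply_ne h7
      have h8 : x = a ∨ x ∈ l₁ := by simpa using this
      rcases h8 with h8 | h8
      · simp [h8]
      · simp [h8]
    · have := h5 x hv
      simp [this]

/-- Decomposition of a long cycle along chunks with prescribed lengths. -/
theorem chunks [Fintype α] (ls : List ℕ) : ∀ (P big : List α), (∀ x ∈ ls, 1 ≤ x) → ls.sum = big.length → (P ++ big).Nodup →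
    ∃ (starts : List α) (v : Perm α), starts.length = ls.length ∧ starts.Sublist big ∧
      formPerm (P ++ big) * v = formPerm (P ++ starts) ∧
      v.cycleType = (↑(ls.filter (fun x => 2 ≤ x)) : Multiset ℕ) ∧ (∀ x, v x ≠ x → x ∈ big) := by
  induction ls with
  | nil =>
    intro P big _ hb _
    have : big = [] := by
      apply List.eq_nil_of_length_eq_zero
      simpa using hb.symm
    subst this
    exact ⟨[], 1, rfl, List.Sublist.refl _, by simp, by simp, by simp⟩
  | cons l ls ih =>
    intro P big hl hb hn
    have hl1 : 1 ≤ l := hl l (by simp)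
    have hl' : ∀ x ∈ ls, 1 ≤ x := fun x hx => hl x (by simp [hx])
    have hsum : l + ls.sum = big.length := by simpa using hb
    -- split `big`
    obtain ⟨a, l₁, rest, hbig, hlen⟩ : ∃ (a : α) (l₁ rest : List α), big = a :: (l₁ ++ rest) ∧ (a :: l₁).length = l := by
      have ht : (big.take l).length = l := by
        rw [List.length_take]; omega
      cases hh : big.take l with
      | nil => rw [hh] at ht; simp at ht; omega
      | cons a l₁ =>
        refine ⟨a, l₁, big.drop l, ?_, by rw [← hh]; exact ht⟩
        have := List.take_append_drop l big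
        rw [hh] at this
        simpa using this.symm
    have hrest : ls.sum = rest.length := by
      have : big.length = (a :: l₁).length + rest.length := by
        rw [hbig]; simp; omega
      omega
    subst hbig
    have hn' : (P ++ [a] ++ rest).Nodup := by
      refine List.Sublist.nodup ?_ hn
      rw [List.append_assoc]
      refine List.Sublist.append_left ?_ P
      refine List.Sublist.cons_cons a ?_
      exact List.sublist_append_right _ _
    obtain ⟨st, v', h1, h2, h3, h4, h5⟩ := ih (P ++ [a]) rest hl' hrest hn'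
    obtain ⟨h6, h7, h8⟩ := chunk_step P a l₁ rest st v' _ hn h3 h4 h5
    refine ⟨a :: st, (formPerm (a :: l₁))⁻¹ * v', by simp [h1], ?_, h6, ?_, h8⟩
    · refine List.Sublist.cons_cons a ?_
      exact h2.trans (List.sublist_append_right _ _)
    · rw [h7, ← hlen, List.length_cons]
      by_cases hl2 : 2 ≤ l₁.length + 1
      · rw [if_pos hl2, List.filter_cons_of_pos (by simpa using hl2), Multiset.singleton_add]
        rfl
      · rw [if_neg hl2, List.filter_cons_of_neg (by simpa using hl2), zero_add]

end Cfsg.Agent.Lib.AltPElt.Basic
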