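import Mathlib
import Cfsg.Agent.Lib.AltPElt.Basic

/-!
Designs of bad pairs: a long cycle `c` and a permutation of prescribed cycle type.
-/

set_option autoImplicit false
set_option linter.unusedSectionVars false
set_option linter.unusedVariables false
set_option linter.unusedSimpArgs false

namespace Cfsg.Agent.Lib.AltPElt.Core

open Equiv Equiv.Perm List
open Cfsg.Agent.Lib.AltPElt.Basic

universe u

variable {α : Type u} [DecidableEq α] [Fintype α]

/-- Conjugation of a swap by a permutation fixing its two points. -/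
theorem comm_swap_of_fix (x : Perm α) {a d : α} (h1 : x a = a) (h2 : x d = d) :
    x * swap a d = swap a d * x := by
  have := swap_apply_apply x a d
  rw [h1, h2] at this
  calc x * swap a d = (x * swap a d * x⁻¹) * x := by group
    _ = swap a d * x := by rw [← this]

theorem swap_fix {a d y : α} (h1 : y ≠ a) (h2 : y ≠ d) : swap a d y = y := swap_apply_of_ne_of_ne h1 h2

theorem swap_comm_of_ne {a d e g : α} (h1 : a ≠ e) (h2 : a ≠ g) (h3 : d ≠ e) (h4 : d ≠ g) :
    swap a d * swap e g = swap e g * swap a d :=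
  comm_swap_of_fix _ (swap_fix h1.symm h3.symm) (swap_fix h2.symm h4.symm)

/-- Data of the long cycle. -/
structure Seq (c : Perm α) (b : ℕ → α) : Prop where
  step : ∀ i, c (b i) = b (i + 1)

theorem Seq.pow {c : Perm α} {b : ℕ → α} (h : Seq c b) (k i : ℕ) : (c ^ k) (b i) = b (i + k) := by
  induction k with
  | zero => simp
  | succ k ih =>
    rw [pow_succ', Perm.mul_apply, ih, h.step]
    rfl

theorem Seq.conj {c : Perm α} {b : ℕ → α} (h : Seq c b) (k i j : ℕ) :
    c ^ k * swap (b i) (b j) * (c ^ k)⁻¹ = swap (b (i + k)) (b (j + k)) := by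
  rw [← swap_apply_apply, h.pow, h.pow]

theorem zz_one {a d e g : α} (h1 : a ≠ e) (h2 : a ≠ g) (h3 : e ≠ d) (h4 : d ≠ g) :
    (swap e g * swap a d) * (swap e g * swap a d) = 1 := by
  have h0 : swap a d * swap e g = swap e g * swap a d := swap_comm_of_ne h1 h2 h3.symm h4
  calc (swap e g * swap a d) * (swap e g * swap a d) = swap e g * (swap a d * swap e g) * swap a d := by
        simp only [mul_assoc]
    _ = (swap e g * swap e g) * (swap a d * swap a d) := by rw [h0]; group
    _ = 1 := by simp only [swap_mul_self, mul_one]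

/-- Key computation: if `z` below lies in the closure then the pair is bad. -/
theorem bad_of_z {p : ℕ} (hp : p.Prime) (hp2 : p ≠ 2) {c v : Perm α} {b : ℕ → α} (hs : Seq c b)
    (hd : ∀ i j, i < j → j ≤ 9 → j - i ∈ ({1, 2, 3, 4, 6, 8} : Finset ℕ) → b i ≠ b j)
    {m : ℕ} (hm : Odd m) (hx : (c * v) ^ m = swap (b 2) (b 4) * swap (b 1) (b 3)) : Bad p c v := by
  have d12 : b 1 ≠ b 2 := hd 1 2 (by norm_num) (by norm_num) (by decide)
  have d13 : b 1 ≠ b 3 := hd 1 3 (by norm_num) (by norm_num) (by decide)
  have d14 : b 1 ≠ b 4 := hd 1 4 (by norm_num) (by norm_num) (by decide)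
  have d15 : b 1 ≠ b 5 := hd 1 5 (by norm_num) (by norm_num) (by decide)
  have d17 : b 1 ≠ b 7 := hd 1 7 (by norm_num) (by norm_num) (by decide)
  have d19 : b 1 ≠ b 9 := hd 1 9 (by norm_num) (by norm_num) (by decide)
  have d23 : b 2 ≠ b 3 := hd 2 3 (by norm_num) (by norm_num) (by decide)
  have d24 : b 2 ≠ b 4 := hd 2 4 (by norm_num) (by norm_num) (by decide)
  have d25 : b 2 ≠ b 5 := hd 2 5 (by norm_num) (by norm_num) (by decide)
  have d34 : b 3 ≠ b 4 := hd 3 4 (by norm_num) (by norm_num) (by decide)
  have d35 : b 3 ≠ b 5 := hd 3 5 (by norm_num) (by norm_num) (by decide)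
  have d37 : b 3 ≠ b 7 := hd 3 7 (by norm_num) (by norm_num) (by decide)
  have d39 : b 3 ≠ b 9 := hd 3 9 (by norm_num) (by norm_num) (by decide)
  have d45 : b 4 ≠ b 5 := hd 4 5 (by norm_num) (by norm_num) (by decide)
  have d57 : b 5 ≠ b 7 := hd 5 7 (by norm_num) (by norm_num) (by decide)
  have d59 : b 5 ≠ b 9 := hd 5 9 (by norm_num) (by norm_num) (by decide)
  have d79 : b 7 ≠ b 9 := hd 7 9 (by norm_num) (by norm_num) (by decide)
  set H := Subgroup.closure ({c, v} : Set (Perm α)) with hH
  have hc : c ∈ H := Subgroup.subset_closure (by simp)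
  have hv : v ∈ H := Subgroup.subset_closure (by simp)
  set z := swap (b 2) (b 4) * swap (b 1) (b 3) with hz
  have hzH : z ∈ H := by
    rw [← hx]
    exact pow_mem (mul_mem hc hv) m
  have hz2 : z * z = 1 := by
    have h0 : swap (b 1) (b 3) * swap (b 2) (b 4) = swap (b 2) (b 4) * swap (b 1) (b 3) :=
      swap_comm_of_ne d12 d14 d23.symm d34
    calc z * z = swap (b 2) (b 4) * (swap (b 1) (b 3) * swap (b 2) (b 4)) * swap (b 1) (b 3) := by
          simp only [hz, mul_assoc]
      _ = (swap (b 2) (b 4) * swap (b 2) (b 4)) * (swap (b 1) (b 3) * swap (b 1) (b 3)) := by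
          rw [h0]; group
      _ = 1 := by simp only [swap_mul_self, mul_one]
  have hz1 : z ≠ 1 := by
    intro h
    have : z (b 1) = b 1 := by rw [h]; rfl
    rw [hz, Perm.mul_apply, swap_apply_left, swap_fix d23.symm d34] at this
    exact d13 this.symm
  -- the three-cycle
  have hT : swap (b 1) (b 3) * swap (b 3) (b 5) ∈ H := by
    have h1 : c * z * c⁻¹ = swap (b 3) (b 5) * swap (b 2) (b 4) := by
      have e1 := hs.conj 1 2 4
      have e2 := hs.conj 1 1 3
      simp only [pow_one] at e1 e2
      calc c * z * c⁻¹ = (c * swap (b 2) (b 4) * c⁻¹) * (c * swap (b 1) (b 3) * c⁻¹) := by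
            simp only [hz]; group
        _ = _ := by rw [e1, e2]
    have h2 : z * (c * z * c⁻¹) = swap (b 1) (b 3) * swap (b 3) (b 5) := by
      rw [h1, hz]
      have c1 : swap (b 2) (b 4) * swap (b 1) (b 3) = swap (b 1) (b 3) * swap (b 2) (b 4) :=
        swap_comm_of_ne d12.symm d23 d14.symm d34.symm
      have c2 : swap (b 2) (b 4) * swap (b 3) (b 5) = swap (b 3) (b 5) * swap (b 2) (b 4) :=
        swap_comm_of_ne d23 d25 d34.symm d45
      calc swap (b 2) (b 4) * swap (b 1) (b 3) * (swap (b 3) (b 5) * swap (b 2) (b 4))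
          = (swap (b 2) (b 4) * swap (b 1) (b 3)) * swap (b 3) (b 5) * swap (b 2) (b 4) := by group
        _ = swap (b 1) (b 3) * (swap (b 2) (b 4) * swap (b 3) (b 5)) * swap (b 2) (b 4) := by rw [c1]; group
        _ = swap (b 1) (b 3) * swap (b 3) (b 5) * (swap (b 2) (b 4) * swap (b 2) (b 4)) := by rw [c2]; group
        _ = _ := by rw [swap_mul_self, mul_one]
    rw [← h2]
    exact mul_mem hzH (mul_mem (mul_mem hc hzH) (inv_mem hc))
  have hT' : swap (b 5) (b 7) * swap (b 7) (b 9) ∈ H := by
    have e1 := hs.conj 4 1 3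
    have e2 := hs.conj 4 3 5
    have : swap (b 5) (b 7) * swap (b 7) (b 9) = c ^ 4 * (swap (b 1) (b 3) * swap (b 3) (b 5)) * (c ^ 4)⁻¹ := by
      calc _ = (c ^ 4 * swap (b 1) (b 3) * (c ^ 4)⁻¹) * (c ^ 4 * swap (b 3) (b 5) * (c ^ 4)⁻¹) := by rw [e1, e2]
        _ = _ := by group
    rw [this]
    exact mul_mem (mul_mem (pow_mem hc 4) hT) (inv_mem (pow_mem hc 4))
  constructor
  · refine not_solvable_of_cycles H (fun i => b (1 + 2 * i.1)) ?_ hT hT'
    intro i j hij
    fin_cases i <;> fin_cases j <;> first | rfl | (exfalso; revert hij; simp; first | exact d13 | exact d15 | exact d17 | exact d19 | exact d35 | exact d37 | exact d39 | exact d57 | exact d59 | exact d79 | exact d13.symm | exact d15.symm | exact d17.symm | exact d19.symm | exact d35.symm | exact d37.symm | exact d39.symm | exact d57.symm | exact d59.symm | exact d79.symm)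
  · rintro ⟨k, hk⟩
    have h2m : (c * v) ^ (2 * m) = 1 := by
      rw [mul_comm, pow_mul, hx]
      rw [pow_two]
      exact hz2
    have hdvd : p ^ k ∣ 2 * m := by
      rw [← hk]
      exact orderOf_dvd_of_pow_eq_one h2m
    have hcop : Nat.Coprime (p ^ k) 2 := by
      apply Nat.Coprime.pow_left
      exact (Nat.coprime_primes hp Nat.prime_two).2 hp2
    have hdvd' : p ^ k ∣ m := hcop.dvd_of_dvd_mul_left hdvd
    have : (c * v) ^ m = 1 := by
      rw [← hk] at hdvd'
      exact orderOf_dvd_iff_pow_eq_one.1 hdvd'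
    rw [hx] at this
    exact hz1 this


theorem not_ppow {p : ℕ} (hp : p.Prime) (hp2 : p ≠ 2) {G : Type*} [Group G] {x z : G} {m : ℕ}
    (hx : x ^ m = z) (hz1 : z ≠ 1) (hz2 : z * z = 1) : ¬ ∃ k : ℕ, orderOf x = p ^ k := by
  rintro ⟨k, hk⟩
  have h2m : x ^ (2 * m) = 1 := by
    rw [mul_comm, pow_mul, hx, pow_two]
    exact hz2
  have hdvd : p ^ k ∣ 2 * m := by
    rw [← hk]
    exact orderOf_dvd_of_pow_eq_one h2m
  have hcop : Nat.Coprime (p ^ k) 2 := by
    apply Nat.Coprime.pow_left
    exact (Nat.coprime_primes hp Nat.prime_two).2 hp2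
  have hdvd' : p ^ k ∣ m := hcop.dvd_of_dvd_mul_left hdvd
  have : x ^ m = 1 := by
    rw [← hk] at hdvd'
    exact orderOf_dvd_iff_pow_eq_one.1 hdvd'
  rw [hx] at this
  exact hz1 this

theorem pow_odd_of_sq {G : Type*} [Group G] {z : G} (h : z * z = 1) {r : ℕ} (hr : Odd r) : z ^ r = z := by
  obtain ⟨k, rfl⟩ := hr
  rw [pow_succ, pow_mul, pow_two, h, one_pow, one_mul]

/-- The effect of a twist by a transposition. -/
theorem twist_pow (c v₀ x₀ : Perm α) (b : ℕ → α) (hs : Seq c b) (i j : ℕ) (h1 : c * v₀ = x₀) {r : ℕ} (hr : Odd r)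
    (hx : x₀ ^ r = 1) (f1 : x₀ (b i) = b i) (f2 : x₀ (b j) = b j) (f3 : x₀ (b (i + 1)) = b (i + 1))
    (f4 : x₀ (b (j + 1)) = b (j + 1)) (hz : (swap (b (i + 1)) (b (j + 1)) * swap (b i) (b j)) *
      (swap (b (i + 1)) (b (j + 1)) * swap (b i) (b j)) = 1) :
    (c * (swap (b i) (b j) * v₀ * (swap (b i) (b j))⁻¹)) ^ r = swap (b (i + 1)) (b (j + 1)) * swap (b i) (b j) := by
  have e1 := hs.conj 1 i j
  simp only [pow_one] at e1
  have e2 : c * (swap (b i) (b j) * v₀ * (swap (b i) (b j))⁻¹)
      = x₀ * (swap (b (i + 1)) (b (j + 1)) * swap (b i) (b j)) := by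
    have e3 : c * (swap (b i) (b j) * v₀ * (swap (b i) (b j))⁻¹)
        = (c * swap (b i) (b j) * c⁻¹) * (c * v₀) * (swap (b i) (b j))⁻¹ := by group
    rw [e3, e1, h1, swap_inv, ← comm_swap_of_fix x₀ f3 f4, mul_assoc]
  have e4 : Commute x₀ (swap (b (i + 1)) (b (j + 1)) * swap (b i) (b j)) := by
    apply Commute.mul_right
    · exact comm_swap_of_fix x₀ f3 f4
    · exact comm_swap_of_fix x₀ f1 f2
  rw [e2, e4.mul_pow, hx, one_mul, pow_odd_of_sq hz hr]

/-- The list seq. -/
def seqOf (big : List α) (h : 0 < big.length) (i : ℕ) : α := big[i % big.length]'(Nat.mod_lt _ h)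

theorem seq_formPerm (big : List α) (h : 0 < big.length) (hn : big.Nodup) : Seq (formPerm big) (seqOf big h) := by
  refine ⟨fun i => ?_⟩
  unfold seqOf
  rw [formPerm_apply_getElem big hn]
  congr 1
  rw [Nat.mod_add_mod]

theorem seqOf_inj (big : List α) (h : 0 < big.length) (hn : big.Nodup) {i j : ℕ}
    (hij : seqOf big h i = seqOf big h j) : i % big.length = j % big.length := by
  unfold seqOf at hij
  exact (hn.getElem_inj_iff).1 hij

theorem seqOf_of_lt (big : List α) (h : 0 < big.length) {i : ℕ} (hi : i < big.length) :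
    seqOf big h i = big[i] := by
  unfold seqOf
  congr 1
  exact Nat.mod_eq_of_lt hi

theorem seqOf_ne (big : List α) (h : 0 < big.length) (hn : big.Nodup) (hodd : Odd big.length) (h5 : 5 ≤ big.length) :
    ∀ i j, i < j → j ≤ 9 → j - i ∈ ({1, 2, 3, 4, 6, 8} : Finset ℕ) → seqOf big h i ≠ seqOf big h j := by
  intro i j hij hj hd he
  have hm := seqOf_inj big h hn he
  have hdvd : big.length ∣ j - i := (Nat.modEq_iff_dvd' hij.le).1 hm
  have hodd' : big.length % 2 = 1 := Nat.odd_iff.1 hodd
  clear he hm
  generalize big.length = L at *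
  have hle : L ≤ j - i := Nat.le_of_dvd (by omega) hdvd
  generalize j - i = d at *
  simp only [Finset.mem_insert, Finset.mem_singleton] at hd
  rcases hd with rfl | rfl | rfl | rfl | rfl | rfl <;> try omega
  · interval_cases L <;> omega
  · interval_cases L <;> omega

theorem even_sum_add_length (l : List ℕ) (h : ∀ x ∈ l, Odd x) : Even (l.sum + l.length) := by
  induction l with
  | nil => simp
  | cons a l ih =>
    have h1 := ih (fun x hx => h x (by simp [hx]))
    have h2 := h a (by simp)
    simp only [List.sum_cons, List.length_cons]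
    have : a + l.sum + (l.length + 1) = (l.sum + l.length) + (a + 1) := by ring
    rw [this]
    exact h1.add h2.add_one

/-- Splitting a list along an initial chunk. -/
theorem split_big (big : List α) (l : ℕ) (h1 : 1 ≤ l) (h2 : l ≤ big.length) :
    ∃ (a : α) (l₁ rest : List α), big = a :: (l₁ ++ rest) ∧ l₁.length + 1 = l := by
  have ht : (big.take l).length = l := by
    rw [List.length_take]; omega
  cases hh : big.take l with
  | nil => rw [hh] at ht; simp at ht; omega
  | cons a l₁ =>
    refine ⟨a, l₁, big.drop l, ?_, by rw [hh] at ht; simpa using ht⟩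
    have := List.take_append_drop l big
    rw [hh] at this
    simpa using this.symm

/-- Main design: the long first chunk. -/
theorem design_one {p : ℕ} (hp : p.Prime) (hp2 : p ≠ 2) (big : List α) (hn : big.Nodup) (hodd : Odd big.length)
    (h5 : 5 ≤ big.length) (l : ℕ) (hl5 : 5 ≤ l) (hlodd : Odd l) (ls : List ℕ) (hls : ∀ x ∈ ls, Odd x)
    (hsum : l + ls.sum = big.length) :
    ∃ v : Perm α, v.cycleType = {l} + (↑(ls.filter (fun x => 2 ≤ x)) : Multiset ℕ) ∧ Bad p (formPerm big) v := by
  obtain ⟨a, l₁, rest, hbig, hlen⟩ := split_big big l (by omega) (by omega)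
  have hpos : 0 < big.length := by omega
  have hs := seq_formPerm big hpos hn
  set b := seqOf big hpos with hb
  have hd := seqOf_ne big hpos hn hodd h5
  have hrest : ls.sum = rest.length := by
    have : big.length = l₁.length + 1 + rest.length := by rw [hbig]; simp; omega
    omega
  have hbl : ∀ j, 1 ≤ j → j < l → b j ∈ l₁ := by
    intro j hj1 hj2
    have hj3 : j < big.length := by omega
    rw [hb, seqOf_of_lt big hpos hj3]
    simp only [hbig]
    obtain ⟨j', rfl⟩ : ∃ j', j = j' + 1 := ⟨j - 1, by omega⟩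
    rw [List.getElem_cons_succ, List.getElem_append_left (by omega)]
    exact List.getElem_mem _
  subst hbig
  have hnd : (a :: (l₁ ++ rest)).Nodup := hn
  have hn' : ([a] ++ rest).Nodup := by
    refine List.Sublist.nodup ?_ hnd
    exact List.Sublist.cons_cons a (List.sublist_append_right _ _)
  obtain ⟨st, v', h1, h2, h3, h4, h5'⟩ := chunks ls [a] rest (fun x hx => (hls x hx).pos) hrest hn'
  obtain ⟨h6, h7, -⟩ := chunk_step [] a l₁ rest st v' _ hnd (by simpa using h3) h4 h5'
  simp only [List.nil_append] at h6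
  have hx₀n : (a :: st).Nodup := by
    refine List.Sublist.nodup ?_ hn'
    exact List.Sublist.cons_cons a h2
  have hr : Odd (a :: st).length := by
    have e1 := even_sum_add_length ls hls
    have : Even ls.length := by
      have e2 : Even ls.sum := by
        have e3 : Odd (l + ls.sum) := by rw [hsum]; exact hodd
        have := (Nat.odd_add.1 e3).1 hlodd
        exact this
      exact (Nat.even_add.1 e1).1 e2
    rw [List.length_cons, h1]
    exact this.add_one
  have hpw := formPerm_pow_length_eq_one_of_nodup (a :: st) hx₀n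
  have hfix : ∀ j, 1 ≤ j → j < l → formPerm (a :: st) (b j) = b j := by
    intro j hj1 hj2
    apply formPerm_apply_of_notMem
    have hm := hbl j hj1 hj2
    intro hmem
    have hnd2 := List.nodup_cons.1 hnd
    rcases List.mem_cons.1 hmem with h8 | h8
    · apply hnd2.1
      rw [← h8]
      simp [hm]
    · have h9 := h2.subset h8
      exact (List.nodup_append.1 hnd2.2).2.2 _ hm _ h9 rfl
  have hlen2 : l₁.length + 1 = l := hlen
  refine ⟨swap (b 1) (b 3) * ((formPerm (a :: l₁))⁻¹ * v') * (swap (b 1) (b 3))⁻¹, ?_, ?_⟩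
  · rw [cycleType_conj, h7, if_pos (by omega), hlen2]
  · have d12 : b 1 ≠ b 2 := hd 1 2 (by norm_num) (by norm_num) (by decide)
    have d14 : b 1 ≠ b 4 := hd 1 4 (by norm_num) (by norm_num) (by decide)
    have d23 : b 2 ≠ b 3 := hd 2 3 (by norm_num) (by norm_num) (by decide)
    have d34 : b 3 ≠ b 4 := hd 3 4 (by norm_num) (by norm_num) (by decide)
    have hz2 := zz_one d12 d14 d23 d34
    exact bad_of_z hp hp2 hs hd hr
      (twist_pow _ _ _ b hs 1 3 h6 hr hpw (hfix 1 (by omega) (by omega)) (hfix 3 (by omega) (by omega))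
        (hfix 2 (by omega) (by omega)) (hfix 4 (by omega) (by omega)) hz2)


/-- Two parities for a long cycle. -/
theorem design_even {p : ℕ} (hp : p.Prime) (hp2 : p ≠ 2) (big : List α) (hn : big.Nodup) (hodd : Odd big.length)
    (h5 : 5 ≤ big.length) (hp3 : big.length = 5 → p ≠ 3) :
    ∃ (v τ : Perm α), v.cycleType = {big.length} ∧ sign τ = -1 ∧ Bad p (formPerm big) v ∧
      Bad p (formPerm big) (τ * v * τ⁻¹) := by
  have hpos : 0 < big.length := by omega
  have hs := seq_formPerm big hpos hn
  set b := seqOf big hpos with hb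
  have hd := seqOf_ne big hpos hn hodd h5
  set c := formPerm big with hc
  have d12 : b 1 ≠ b 2 := hd 1 2 (by norm_num) (by norm_num) (by decide)
  have d13 : b 1 ≠ b 3 := hd 1 3 (by norm_num) (by norm_num) (by decide)
  have d14 : b 1 ≠ b 4 := hd 1 4 (by norm_num) (by norm_num) (by decide)
  have d23 : b 2 ≠ b 3 := hd 2 3 (by norm_num) (by norm_num) (by decide)
  have d24 : b 2 ≠ b 4 := hd 2 4 (by norm_num) (by norm_num) (by decide)
  have d34 : b 3 ≠ b 4 := hd 3 4 (by norm_num) (by norm_num) (by decide)
  have hz2 := zz_one d12 d14 d23 d34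
  have hccy : c.cycleType = {big.length} := cycleType_formPerm' hn (by omega)
  set z := swap (b 2) (b 4) * swap (b 1) (b 3) with hz
  have hv1 : c * (swap (b 1) (b 3) * c⁻¹ * (swap (b 1) (b 3))⁻¹) = z := by
    have e1 := hs.conj 1 1 3
    simp only [pow_one] at e1
    have e3 : c * (swap (b 1) (b 3) * c⁻¹ * (swap (b 1) (b 3))⁻¹)
        = (c * swap (b 1) (b 3) * c⁻¹) * (swap (b 1) (b 3))⁻¹ := by group
    rw [e3, e1, swap_inv]
  have hvb : Bad p c (swap (b 1) (b 3) * c⁻¹ * (swap (b 1) (b 3))⁻¹) := by
    apply bad_of_z hp hp2 hs hd (m := 1) (by decide)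
    rw [pow_one, hv1]
  by_cases hL : big.length = 5
  · -- the case of five points
    have hp3' := hp3 hL
    refine ⟨swap (b 1) (b 3) * c⁻¹ * (swap (b 1) (b 3))⁻¹, swap (b 0) (b 2), ?_, ?_, hvb, ?_⟩
    · rw [cycleType_conj, cycleType_inv, hccy]
    · rw [sign_swap]
      have := hd 0 2 (by norm_num) (by norm_num) (by decide)
      exact this
    · set v := swap (b 1) (b 3) * c⁻¹ * (swap (b 1) (b 3))⁻¹ with hv
      have d02 : b 0 ≠ b 2 := hd 0 2 (by norm_num) (by norm_num) (by decide)
      have d01 : b 0 ≠ b 1 := hd 0 1 (by norm_num) (by norm_num) (by decide)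
      have d03 : b 0 ≠ b 3 := hd 0 3 (by norm_num) (by norm_num) (by decide)
      have d04 : b 0 ≠ b 4 := hd 0 4 (by norm_num) (by norm_num) (by decide)
      have h50 : b 5 = b 0 := by
        rw [hb]
        unfold seqOf
        congr 1
        rw [hL]
      have e1 := hs.conj 1 0 2
      simp only [pow_one] at e1
      have hx : c * (swap (b 0) (b 2) * v * (swap (b 0) (b 2))⁻¹) = swap (b 2) (b 4) * swap (b 0) (b 2) := by
        have e3 : c * (swap (b 0) (b 2) * v * (swap (b 0) (b 2))⁻¹)
            = (c * swap (b 0) (b 2) * c⁻¹) * (c * v) * (swap (b 0) (b 2))⁻¹ := by group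
        rw [e3, e1, hv1, swap_inv, hz]
        simp only [zero_add]
        norm_num
        have c1 : swap (b 1) (b 3) * swap (b 2) (b 4) = swap (b 2) (b 4) * swap (b 1) (b 3) :=
          swap_comm_of_ne d12 d14 d23.symm d34
        rw [← mul_assoc, c1, mul_assoc (swap (b 2) (b 4)), swap_mul_self, mul_one]
      set H := Subgroup.closure ({c, swap (b 0) (b 2) * v * (swap (b 0) (b 2))⁻¹} : Set (Perm α)) with hH
      have hcH : c ∈ H := Subgroup.subset_closure (by simp)
      have hvH : swap (b 0) (b 2) * v * (swap (b 0) (b 2))⁻¹ ∈ H := Subgroup.subset_closure (by simp)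
      have hT : swap (b 2) (b 4) * swap (b 0) (b 2) ∈ H := by
        rw [← hx]
        exact mul_mem hcH hvH
      constructor
      · have e2 := hs.conj 1 2 4
        have e4 := hs.conj 1 0 2
        simp only [pow_one] at e2 e4
        have hT2 : swap (b 3) (b 5) * swap (b 1) (b 3) ∈ H := by
          have : swap (b 3) (b 5) * swap (b 1) (b 3) = c * (swap (b 2) (b 4) * swap (b 0) (b 2)) * c⁻¹ := by
            calc _ = (c * swap (b 2) (b 4) * c⁻¹) * (c * swap (b 0) (b 2) * c⁻¹) := by rw [e2, e4]
              _ = _ := by group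
          rw [this]
          exact mul_mem (mul_mem hcH hT) (inv_mem hcH)
        refine not_solvable_of_cycles H ![b 4, b 2, b 0, b 3, b 1] ?_ ?_ ?_
        · intro i j hij
          fin_cases i <;> fin_cases j <;> simp at hij ⊢ <;> first | rfl | (exfalso; first | exact d01 hij | exact d02 hij | exact d03 hij | exact d04 hij | exact d12 hij | exact d13 hij | exact d14 hij | exact d23 hij | exact d24 hij | exact d34 hij | exact d01 hij.symm | exact d02 hij.symm | exact d03 hij.symm | exact d04 hij.symm | exact d12 hij.symm | exact d13 hij.symm | exact d14 hij.symm | exact d23 hij.symm | exact d24 hij.symm | exact d34 hij.symm)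
        · simp only [Matrix.cons_val]
          rw [swap_comm (b 4) (b 2), swap_comm (b 2) (b 0)]
          exact hT
        · simp only [Matrix.cons_val]
          rw [h50] at hT2
          rw [swap_comm (b 0) (b 3)] at *
          rw [swap_comm (b 3) (b 1)]
          exact hT2
      · rintro ⟨k, hk⟩
        rw [hx] at hk
        have h3 : (swap (b 2) (b 4) * swap (b 0) (b 2)).IsThreeCycle := by
          rw [swap_comm (b 0) (b 2)]
          exact isThreeCycle_swap_mul_swap_same d24 d02.symm d04.symm
        rw [h3.orderOf] at hk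
        have h4 : p ∣ 3 := by
          rcases k with _ | k
          · simp at hk
          · rw [hk]; exact dvd_pow_self p (by omega)
        exact hp3' ((Nat.prime_dvd_prime_iff_eq hp Nat.prime_three).1 h4)
  · have h7 : 7 ≤ big.length := by
      have := Nat.odd_iff.1 hodd
      omega
    have hd7 : ∀ i j, 1 ≤ i → i < j → j ≤ 7 → b i ≠ b j := by
      intro i j hi hij hj he
      have hm := seqOf_inj big hpos hn he
      have hdvd : big.length ∣ j - i := (Nat.modEq_iff_dvd' hij.le).1 hm
      have := Nat.le_of_dvd (by omega) hdvd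
      omega
    have d15 := hd7 1 5 (by norm_num) (by norm_num) (by norm_num)
    have d16 := hd7 1 6 (by norm_num) (by norm_num) (by norm_num)
    have d17 := hd7 1 7 (by norm_num) (by norm_num) (by norm_num)
    have d25 := hd7 2 5 (by norm_num) (by norm_num) (by norm_num)
    have d26 := hd7 2 6 (by norm_num) (by norm_num) (by norm_num)
    have d27 := hd7 2 7 (by norm_num) (by norm_num) (by norm_num)
    have d35 := hd7 3 5 (by norm_num) (by norm_num) (by norm_num)
    have d36 := hd7 3 6 (by norm_num) (by norm_num) (by norm_num)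
    have d37 := hd7 3 7 (by norm_num) (by norm_num) (by norm_num)
    have d45 := hd7 4 5 (by norm_num) (by norm_num) (by norm_num)
    have d46 := hd7 4 6 (by norm_num) (by norm_num) (by norm_num)
    have d47 := hd7 4 7 (by norm_num) (by norm_num) (by norm_num)
    have d56 := hd7 5 6 (by norm_num) (by norm_num) (by norm_num)
    have d57 := hd7 5 7 (by norm_num) (by norm_num) (by norm_num)
    have d67 := hd7 6 7 (by norm_num) (by norm_num) (by norm_num)
    refine ⟨swap (b 1) (b 3) * c⁻¹ * (swap (b 1) (b 3))⁻¹, swap (b 5) (b 6), ?_, ?_, hvb, ?_⟩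
    · rw [cycleType_conj, cycleType_inv, hccy]
    · rw [sign_swap d56]
    · set v := swap (b 1) (b 3) * c⁻¹ * (swap (b 1) (b 3))⁻¹ with hv
      have e1 := hs.conj 1 5 6
      simp only [pow_one] at e1
      have hx : c * (swap (b 5) (b 6) * v * (swap (b 5) (b 6))⁻¹) = z * (swap (b 6) (b 7) * swap (b 5) (b 6)) := by
        have e3 : c * (swap (b 5) (b 6) * v * (swap (b 5) (b 6))⁻¹)
            = (c * swap (b 5) (b 6) * c⁻¹) * (c * v) * (swap (b 5) (b 6))⁻¹ := by group
        rw [e3, e1, hv1, swap_inv]
        have c1 : swap (b 6) (b 7) * z = z * swap (b 6) (b 7) := by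
          refine (comm_swap_of_fix z ?_ ?_).symm
          · rw [hz, Perm.mul_apply, swap_fix d16.symm d36.symm, swap_fix d26.symm d46.symm]
          · rw [hz, Perm.mul_apply, swap_fix d17.symm d37.symm, swap_fix d27.symm d47.symm]
        rw [c1, mul_assoc]
      have hs3 : (swap (b 6) (b 7) * swap (b 5) (b 6)) ^ 3 = 1 := by
        have h3 : (swap (b 6) (b 7) * swap (b 5) (b 6)).IsThreeCycle := by
          rw [swap_comm (b 5) (b 6)]
          exact isThreeCycle_swap_mul_swap_same d67 d56.symm d57.symm
        rw [← h3.orderOf]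
        exact pow_orderOf_eq_one _
      have hcomm : Commute z (swap (b 6) (b 7) * swap (b 5) (b 6)) := by
        apply Commute.mul_right
        · refine (comm_swap_of_fix z ?_ ?_).symm.symm
          · rw [hz, Perm.mul_apply, swap_fix d16.symm d36.symm, swap_fix d26.symm d46.symm]
          · rw [hz, Perm.mul_apply, swap_fix d17.symm d37.symm, swap_fix d27.symm d47.symm]
        · refine (comm_swap_of_fix z ?_ ?_).symm.symm
          · rw [hz, Perm.mul_apply, swap_fix d15.symm d35.symm, swap_fix d25.symm d45.symm]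
          · rw [hz, Perm.mul_apply, swap_fix d16.symm d36.symm, swap_fix d26.symm d46.symm]
      apply bad_of_z hp hp2 hs hd (m := 3) (by decide)
      rw [hx, hcomm.mul_pow, hs3, mul_one, pow_odd_of_sq hz2 (by decide)]

/-- A single three-cycle. -/
theorem design_three (a' : ℕ) (ha : 2 ≤ a') (big : List α) (hn : big.Nodup) (hL : big.length = 3 ^ a') :
    ∃ v : Perm α, v.cycleType = {3} ∧ Bad 3 (formPerm big) v := by
  have h9 : 9 ≤ big.length := by
    rw [hL]
    calc 9 = 3 ^ 2 := by norm_num
      _ ≤ 3 ^ a' := Nat.pow_le_pow_right (by norm_num) ha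
  have hodd : Odd big.length := by
    rw [hL]
    exact Odd.pow (by decide)
  obtain ⟨a, l₁, rest, hbig, hlen⟩ := split_big big 3 (by omega) (by omega)
  have hpos : 0 < big.length := by omega
  have hs := seq_formPerm big hpos hn
  set b := seqOf big hpos with hb
  have hd := seqOf_ne big hpos hn hodd (by omega)
  have hb0 : b 0 = a := by
    rw [hb, seqOf_of_lt big hpos hpos]
    simp only [hbig]
    rfl
  have hl1 : l₁.length = 2 := by omega
  obtain ⟨x1, x2, rfl⟩ : ∃ x1 x2, l₁ = [x1, x2] := List.length_eq_two.1 hl1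
  have hb1 : b 1 = x1 := by
    rw [hb, seqOf_of_lt big hpos (by omega)]
    simp only [hbig]
    rfl
  have hb2 : b 2 = x2 := by
    rw [hb, seqOf_of_lt big hpos (by omega)]
    simp only [hbig]
    rfl
  have hc : formPerm big = formPerm (a :: rest) * formPerm [a, x1, x2] := by
    rw [hbig]
    exact formPerm_arc [x1, x2] a rest (hbig ▸ hn)
  have hnd3 : ([a, x1, x2] : List α).Nodup := by
    have : ([a, x1, x2] : List α) <+ a :: ([x1, x2] ++ rest) := by
      exact List.Sublist.cons_cons a (List.sublist_append_left _ _)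
    exact this.nodup (hbig ▸ hn)
  have hndr : (a :: rest).Nodup := by
    have : (a :: rest) <+ a :: ([x1, x2] ++ rest) := by
      exact List.Sublist.cons_cons a (List.sublist_append_right _ _)
    exact this.nodup (hbig ▸ hn)
  have hlr : (a :: rest).length = big.length - 2 := by
    rw [hbig]; simp
  refine ⟨(formPerm [a, x1, x2])⁻¹, ?_, ?_, ?_⟩
  · rw [cycleType_inv, cycleType_formPerm' hnd3 (by simp)]
    rfl
  · set H := Subgroup.closure ({formPerm big, (formPerm [a, x1, x2])⁻¹} : Set (Perm α)) with hH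
    have hcH : formPerm big ∈ H := Subgroup.subset_closure (by simp)
    have hvH : (formPerm [a, x1, x2])⁻¹ ∈ H := Subgroup.subset_closure (by simp)
    have hT : swap (b 0) (b 1) * swap (b 1) (b 2) ∈ H := by
      have : swap (b 0) (b 1) * swap (b 1) (b 2) = formPerm [a, x1, x2] := by
        rw [hb0, hb1, hb2]
        simp [formPerm_cons_cons]
      rw [this]
      simpa using inv_mem hvH
    have hT' : swap (b 2) (b 3) * swap (b 3) (b 4) ∈ H := by
      have e1 := hs.conj 2 0 1
      have e2 := hs.conj 2 1 2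
      have : swap (b 2) (b 3) * swap (b 3) (b 4)
          = formPerm big ^ 2 * (swap (b 0) (b 1) * swap (b 1) (b 2)) * (formPerm big ^ 2)⁻¹ := by
        calc _ = (formPerm big ^ 2 * swap (b 0) (b 1) * (formPerm big ^ 2)⁻¹) *
              (formPerm big ^ 2 * swap (b 1) (b 2) * (formPerm big ^ 2)⁻¹) := by rw [e1, e2]
          _ = _ := by group
      rw [this]
      exact mul_mem (mul_mem (pow_mem hcH 2) hT) (inv_mem (pow_mem hcH 2))
    refine not_solvable_of_cycles H (fun i => b i.1) ?_ hT hT'
    intro i j hij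
    by_contra hne
    have hij' : i.1 ≠ j.1 := fun h => hne (Fin.ext h)
    rcases Nat.lt_or_gt_of_ne hij' with h | h
    · exact hd i.1 j.1 h (by omega) (by have := i.2; have := j.2; simp only [Finset.mem_insert, Finset.mem_singleton]; omega) hij
    · exact hd j.1 i.1 h (by omega) (by have := i.2; have := j.2; simp only [Finset.mem_insert, Finset.mem_singleton]; omega) hij.symm
  · rintro ⟨k, hk⟩
    have hmul : formPerm big * (formPerm [a, x1, x2])⁻¹ = formPerm (a :: rest) := by
      rw [hc]; group
    rw [hmul] at hk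
    have hcy : (formPerm (a :: rest)).IsCycle := isCycle_formPerm hndr (by rw [hlr]; omega)
    rw [hcy.orderOf, support_formPerm_of_nodup _ hndr (by
      intro x h
      have := congrArg List.length h
      rw [hlr] at this
      simp at this
      omega), List.card_toFinset, List.dedup_eq_self.mpr hndr, hlr, hL] at hk
    have h3 : 3 ∣ 3 ^ a' := dvd_pow_self 3 (by omega)
    rcases k with _ | k
    · simp at hk
      omega
    · have h4 : 3 ∣ 3 ^ (k + 1) := dvd_pow_self 3 (by omega)
      rw [← hk] at h4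
      have h5 : 3 ^ a' ≥ 9 := hL ▸ h9
      omega

/-- A bad pair from the second type of involution. -/
theorem bad_of_z4 {p : ℕ} (hp : p.Prime) (hp2 : p ≠ 2) {c v : Perm α} {b : ℕ → α} (hs : Seq c b)
    (hd : ∀ i j, i < j → j ≤ 14 → b i ≠ b j)
    {m : ℕ} (hx : (c * v) ^ m = swap (b 2) (b 5) * swap (b 1) (b 4)) : Bad p c v := by
  have D : ∀ i j, i ≠ j → i ≤ 14 → j ≤ 14 → b i ≠ b j := by
    intro i j hij hi hj
    rcases Nat.lt_or_gt_of_ne hij with h | h
    · exact hd i j h hj
    · exact (hd j i h hi).symm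
  set H := Subgroup.closure ({c, v} : Set (Perm α)) with hH
  have hc : c ∈ H := Subgroup.subset_closure (by simp)
  have hv : v ∈ H := Subgroup.subset_closure (by simp)
  set z := swap (b 2) (b 5) * swap (b 1) (b 4) with hz
  have hzH : z ∈ H := by
    rw [← hx]
    exact pow_mem (mul_mem hc hv) m
  have hz2 : z * z = 1 := zz_one (D 1 2 (by norm_num) (by norm_num) (by norm_num)) (D 1 5 (by norm_num) (by norm_num) (by norm_num))
    (D 2 4 (by norm_num) (by norm_num) (by norm_num)) (D 4 5 (by norm_num) (by norm_num) (by norm_num))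
  have hz1 : z ≠ 1 := by
    intro h
    have : z (b 1) = b 1 := by rw [h]; rfl
    rw [hz, Perm.mul_apply, swap_apply_left, swap_fix (D 4 2 (by norm_num) (by norm_num) (by norm_num))
      (D 4 5 (by norm_num) (by norm_num) (by norm_num))] at this
    exact D 1 4 (by norm_num) (by norm_num) (by norm_num) this.symm
  constructor
  · -- the commuting parts
    have e1 := hs.conj 4 2 5
    have e2 := hs.conj 4 1 4
    have hz' : c ^ 4 * z * (c ^ 4)⁻¹ = swap (b 6) (b 9) * swap (b 5) (b 8) := by
      calc c ^ 4 * z * (c ^ 4)⁻¹ = (c ^ 4 * swap (b 2) (b 5) * (c ^ 4)⁻¹) * (c ^ 4 * swap (b 1) (b 4) * (c ^ 4)⁻¹) := by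
            simp only [hz]; group
        _ = _ := by rw [e1, e2]
    set A := swap (b 2) (b 5) * swap (b 5) (b 8) with hA
    set B := swap (b 1) (b 4) * swap (b 6) (b 9) with hB
    have hzz : z * (c ^ 4 * z * (c ^ 4)⁻¹) = A * B := by
      rw [hz', hz, hA, hB]
      have c1 : swap (b 1) (b 4) * swap (b 6) (b 9) = swap (b 6) (b 9) * swap (b 1) (b 4) :=
        swap_comm_of_ne (D 1 6 (by norm_num) (by norm_num) (by norm_num)) (D 1 9 (by norm_num) (by norm_num) (by norm_num))
          (D 4 6 (by norm_num) (by norm_num) (by norm_num)) (D 4 9 (by norm_num) (by norm_num) (by norm_num))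
      have c2 : swap (b 1) (b 4) * swap (b 5) (b 8) = swap (b 5) (b 8) * swap (b 1) (b 4) :=
        swap_comm_of_ne (D 1 5 (by norm_num) (by norm_num) (by norm_num)) (D 1 8 (by norm_num) (by norm_num) (by norm_num))
          (D 4 5 (by norm_num) (by norm_num) (by norm_num)) (D 4 8 (by norm_num) (by norm_num) (by norm_num))
      have c3 : swap (b 6) (b 9) * swap (b 5) (b 8) = swap (b 5) (b 8) * swap (b 6) (b 9) :=
        swap_comm_of_ne (D 6 5 (by norm_num) (by norm_num) (by norm_num)) (D 6 8 (by norm_num) (by norm_num) (by norm_num))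
          (D 9 5 (by norm_num) (by norm_num) (by norm_num)) (D 9 8 (by norm_num) (by norm_num) (by norm_num))
      calc swap (b 2) (b 5) * swap (b 1) (b 4) * (swap (b 6) (b 9) * swap (b 5) (b 8))
          = swap (b 2) (b 5) * swap (b 1) (b 4) * (swap (b 5) (b 8) * swap (b 6) (b 9)) := by rw [c3]
        _ = swap (b 2) (b 5) * (swap (b 1) (b 4) * swap (b 5) (b 8)) * swap (b 6) (b 9) := by group
        _ = swap (b 2) (b 5) * (swap (b 5) (b 8) * swap (b 1) (b 4)) * swap (b 6) (b 9) := by rw [c2]
        _ = _ := by group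
    have hcom : Commute A B := by
      apply Commute.mul_left
      · apply Commute.mul_right
        · exact swap_comm_of_ne (D 2 1 (by norm_num) (by norm_num) (by norm_num)) (D 2 4 (by norm_num) (by norm_num) (by norm_num))
            (D 5 1 (by norm_num) (by norm_num) (by norm_num)) (D 5 4 (by norm_num) (by norm_num) (by norm_num))
        · exact swap_comm_of_ne (D 2 6 (by norm_num) (by norm_num) (by norm_num)) (D 2 9 (by norm_num) (by norm_num) (by norm_num))
            (D 5 6 (by norm_num) (by norm_num) (by norm_num)) (D 5 9 (by norm_num) (by norm_num) (by norm_num))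
      · apply Commute.mul_right
        · exact swap_comm_of_ne (D 5 1 (by norm_num) (by norm_num) (by norm_num)) (D 5 4 (by norm_num) (by norm_num) (by norm_num))
            (D 8 1 (by norm_num) (by norm_num) (by norm_num)) (D 8 4 (by norm_num) (by norm_num) (by norm_num))
        · exact swap_comm_of_ne (D 5 6 (by norm_num) (by norm_num) (by norm_num)) (D 5 9 (by norm_num) (by norm_num) (by norm_num))
            (D 8 6 (by norm_num) (by norm_num) (by norm_num)) (D 8 9 (by norm_num) (by norm_num) (by norm_num))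
    have hB2 : B * B = 1 := by
      have := zz_one (a := b 6) (d := b 9) (e := b 1) (g := b 4) (D 6 1 (by norm_num) (by norm_num) (by norm_num))
        (D 6 4 (by norm_num) (by norm_num) (by norm_num)) (D 1 9 (by norm_num) (by norm_num) (by norm_num))
        (D 9 4 (by norm_num) (by norm_num) (by norm_num))
      exact this
    have hA3 : A ^ 3 = 1 := by
      have h3 : A.IsThreeCycle := by
        rw [hA, swap_comm (b 2) (b 5)]
        exact isThreeCycle_swap_mul_swap_same (D 5 2 (by norm_num) (by norm_num) (by norm_num))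
          (D 5 8 (by norm_num) (by norm_num) (by norm_num)) (D 2 8 (by norm_num) (by norm_num) (by norm_num))
      rw [← h3.orderOf]
      exact pow_orderOf_eq_one _
    have hAH : A ∈ H := by
      have h0 : (A * B) ^ 4 = A := by
        rw [hcom.mul_pow]
        have e3 : B ^ 4 = 1 := by
          calc B ^ 4 = (B * B) * (B * B) := by
                rw [show (4 : ℕ) = 2 + 2 from rfl, pow_add, pow_two]
            _ = 1 := by rw [hB2, one_mul]
        have e4 : A ^ 4 = A := by
          calc A ^ 4 = A ^ 3 * A := by rw [pow_succ]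
            _ = A := by rw [hA3, one_mul]
        rw [e3, e4, mul_one]
      rw [← h0, ← hzz]
      exact pow_mem (mul_mem hzH (mul_mem (mul_mem (pow_mem hc 4) hzH) (inv_mem (pow_mem hc 4)))) 4
    have hT' : swap (b 8) (b 11) * swap (b 11) (b 14) ∈ H := by
      have e5 := hs.conj 6 2 5
      have e6 := hs.conj 6 5 8
      have : swap (b 8) (b 11) * swap (b 11) (b 14) = c ^ 6 * A * (c ^ 6)⁻¹ := by
        calc _ = (c ^ 6 * swap (b 2) (b 5) * (c ^ 6)⁻¹) * (c ^ 6 * swap (b 5) (b 8) * (c ^ 6)⁻¹) := by rw [e5, e6]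
          _ = _ := by simp only [hA]; group
      rw [this]
      exact mul_mem (mul_mem (pow_mem hc 6) hAH) (inv_mem (pow_mem hc 6))
    refine not_solvable_of_cycles H (fun i => b (2 + 3 * i.1)) ?_ hAH hT'
    intro i j hij
    by_contra hne
    have hij' : 2 + 3 * i.1 ≠ 2 + 3 * j.1 := fun h => hne (Fin.ext (by omega))
    exact D _ _ hij' (by have := i.2; omega) (by have := j.2; omega) hij
  · exact not_ppow hp hp2 hx hz1 hz2

/-- The design for at least two three-cycles (large degree). -/
theorem design_four {p : ℕ} (hp : p.Prime) (hp2 : p ≠ 2) (big : List α) (hn : big.Nodup) (hodd : Odd big.length)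
    (h27 : 27 ≤ big.length) (ls : List ℕ) (hls : ∀ x ∈ ls, Odd x)
    (hsum : 6 + ls.sum = big.length) :
    ∃ v : Perm α, v.cycleType = {3} + ({3} + (↑(ls.filter (fun x => 2 ≤ x)) : Multiset ℕ)) ∧ Bad p (formPerm big) v := by
  obtain ⟨x0, x1, x2, x3, x4, x5, rest, hbig⟩ : ∃ x0 x1 x2 x3 x4 x5 rest, big = x0 :: x1 :: x2 :: x3 :: x4 :: x5 :: rest := by
    match big, h27 with
    | x0 :: x1 :: x2 :: x3 :: x4 :: x5 :: rest, _ => exact ⟨x0, x1, x2, x3, x4, x5, rest, rfl⟩
    | [], h => simp at h
    | [_], h => simp at h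
    | [_, _], h => simp at h
    | [_, _, _], h => simp at h
    | [_, _, _, _], h => simp at h
    | [_, _, _, _, _], h => simp at h
  have hpos : 0 < big.length := by omega
  have hs := seq_formPerm big hpos hn
  set b := seqOf big hpos with hb
  have hbi : ∀ i, ∀ (h : i < big.length), b i = big[i] := fun i h => seqOf_of_lt big hpos h
  have hd : ∀ i j, i < j → j ≤ 14 → b i ≠ b j := by
    intro i j hij hj he
    rw [hbi i (by omega), hbi j (by omega)] at he
    have := (hn.getElem_inj_iff).1 he
    omega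
  have hb1 : b 1 = x1 := by rw [hbi 1 (by omega)]; simp only [hbig]; rfl
  have hb2 : b 2 = x2 := by rw [hbi 2 (by omega)]; simp only [hbig]; rfl
  have hb4 : b 4 = x4 := by rw [hbi 4 (by omega)]; simp only [hbig]; rfl
  have hb5 : b 5 = x5 := by rw [hbi 5 (by omega)]; simp only [hbig]; rfl
  have hrest : ls.sum = rest.length := by
    have : big.length = 6 + rest.length := by rw [hbig]; simp; omega
    omega
  subst hbig
  have hn1 : ([x0, x3] ++ rest).Nodup := by
    have : ([x0, x3] ++ rest) <+ x0 :: x1 :: x2 :: x3 :: x4 :: x5 :: rest := by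
      refine List.Sublist.cons_cons x0 ?_
      refine List.Sublist.cons x1 ?_
      refine List.Sublist.cons x2 ?_
      refine List.Sublist.cons_cons x3 ?_
      refine List.Sublist.cons x4 ?_
      exact List.Sublist.cons x5 (List.Sublist.refl _)
    exact this.nodup hn
  obtain ⟨st, v', h1, h2, h3, h4, h5⟩ := chunks ls [x0, x3] rest (fun x hx => (hls x hx).pos) hrest hn1
  have hn2 : ([x0] ++ x3 :: ([x4, x5] ++ rest)).Nodup := by
    have : ([x0] ++ x3 :: ([x4, x5] ++ rest)) <+ x0 :: x1 :: x2 :: x3 :: x4 :: x5 :: rest := by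
      refine List.Sublist.cons_cons x0 ?_
      refine List.Sublist.cons x1 ?_
      refine List.Sublist.cons x2 ?_
      exact List.Sublist.refl _
    exact this.nodup hn
  obtain ⟨h6, h7, h8⟩ := chunk_step [x0] x3 [x4, x5] rest st v' _ hn2 (by simpa using h3) h4 h5
  have hn3 : ([] ++ x0 :: ([x1, x2] ++ (x3 :: ([x4, x5] ++ rest)))).Nodup := by
    simpa using hn
  obtain ⟨h9, h10, -⟩ := chunk_step [] x0 [x1, x2] (x3 :: ([x4, x5] ++ rest)) (x3 :: st) _ _ hn3 (by simpa using h6) h7 (by
    intro x hx
    have := h8 x hx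
    simpa using this)
  have hc : formPerm (x0 :: x1 :: x2 :: x3 :: x4 :: x5 :: rest) *
      ((formPerm [x0, x1, x2])⁻¹ * ((formPerm [x3, x4, x5])⁻¹ * v')) = formPerm (x0 :: x3 :: st) := by
    simpa using h9
  have hx₀n : (x0 :: x3 :: st).Nodup := by
    have h11 : ([x0, x3] ++ st).Nodup := List.Sublist.nodup (List.Sublist.append_left h2 _) hn1
    simpa using h11
  have hr : Odd (x0 :: x3 :: st).length := by
    have e1 := even_sum_add_length ls hls
    have e3 : Odd ls.sum := by
      have e4 : Odd (6 + ls.sum) := by rw [hsum]; exact hodd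
      exact (Nat.odd_add'.1 e4).2 (by decide)
    have : Odd ls.length := by
      rcases Nat.even_or_odd ls.length with h | h
      · exact absurd (e1) (by
          intro h0
          have := (Nat.even_add.1 h0).2 h
          exact (Nat.not_even_iff_odd.2 e3) this)
      · exact h
    simp only [List.length_cons, h1]
    have e5 : ls.length + 1 + 1 = ls.length + 2 := rfl
    rw [e5]
    exact this.add_even (by decide)
  have hpw := formPerm_pow_length_eq_one_of_nodup (x0 :: x3 :: st) hx₀n
  have hfixgen : ∀ y, y ∈ [x1, x2, x4, x5] → formPerm (x0 :: x3 :: st) y = y := by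
    intro y hy
    apply formPerm_apply_of_notMem
    intro hmem
    have hp' : (x0 :: x1 :: x2 :: x3 :: x4 :: x5 :: rest).Nodup := hn
    simp only [List.nodup_cons, List.mem_cons, List.mem_append, not_or] at hp'
    have hst : ∀ z ∈ st, z ∈ rest := fun z hz => h2.subset hz
    simp only [List.mem_cons, List.not_mem_nil, or_false] at hy hmem
    rcases hmem with h | h | h
    · subst h
      rcases hy with rfl | rfl | rfl | rfl <;> simp_all
    · subst h
      rcases hy with rfl | rfl | rfl | rfl <;> simp_all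
    · have := hst _ h
      rcases hy with rfl | rfl | rfl | rfl <;> simp_all
  refine ⟨swap (b 1) (b 4) * ((formPerm [x0, x1, x2])⁻¹ * ((formPerm [x3, x4, x5])⁻¹ * v')) * (swap (b 1) (b 4))⁻¹, ?_, ?_⟩
  · rw [cycleType_conj, h10]
    simp only [List.length_cons, List.length_nil]
    norm_num
  · refine bad_of_z4 hp hp2 hs hd (m := (x0 :: x3 :: st).length) ?_
    refine twist_pow _ _ _ b hs 1 4 hc hr hpw ?_ ?_ ?_ ?_ ?_
    · rw [hb1]; exact hfixgen _ (by simp)
    · rw [hb4]; exact hfixgen _ (by simp)
    · rw [hb2]; exact hfixgen _ (by simp)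
    · rw [hb5]; exact hfixgen _ (by simp)
    · exact zz_one (hd 1 2 (by norm_num) (by norm_num)) (hd 1 5 (by norm_num) (by norm_num))
        (hd 2 4 (by norm_num) (by norm_num)) (hd 4 5 (by norm_num) (by norm_num))

end Cfsg.Agent.Lib.AltPElt.Core
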