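import Mathlib
import Cfsg.Agent.Lib.AltPElt.Core

/-!
Explicit small configurations (degree five, six and nine, prime three).
-/

set_option autoImplicit false
set_option linter.unusedSectionVars false
set_option linter.unusedVariables false
set_option linter.unusedSimpArgs false

namespace Cfsg.Agent.Lib.AltPElt.Small

open Equiv Equiv.Perm List
open Cfsg.Agent.Lib.AltPElt.Basic Cfsg.Agent.Lib.AltPElt.Core

theorem not_three_pow_of_five {G : Type*} [Group G] {x : G} (h5 : x ^ 5 = 1) (h1 : x ≠ 1) :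
    ¬ ∃ k : ℕ, orderOf x = 3 ^ k := by
  rintro ⟨k, hk⟩
  have h := orderOf_dvd_of_pow_eq_one h5
  rw [hk] at h
  have hcop : Nat.Coprime (3 ^ k) 5 := Nat.Coprime.pow_left _ (by norm_num)
  have : 3 ^ k = 1 := Nat.Coprime.eq_one_of_dvd hcop h
  rw [this] at hk
  exact h1 (orderOf_eq_one_iff.1 hk)

theorem cyc_two {m : ℕ} (l₁ l₂ : List (Fin m)) (h1 : l₁.Nodup) (h2 : l₂.Nodup) (hd : l₁.Disjoint l₂)
    (h3 : 2 ≤ l₁.length) (h4 : 2 ≤ l₂.length) :
    (formPerm l₁ * formPerm l₂).cycleType = {l₁.length} + {l₂.length} := by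
  rw [Equiv.Perm.Disjoint.cycleType_mul ((formPerm_disjoint_iff h1 h2 h3 h4).2 hd), cycleType_formPerm' h1 h3,
    cycleType_formPerm' h2 h4]

set_option maxRecDepth 100000 in
/-- Degree five: one three-cycle each. -/
theorem d5 : Bad 3 (formPerm [0, 1, 2] : Perm (Fin 5)) (formPerm [2, 3, 4]) := by
  refine ⟨?_, ?_⟩
  · refine not_solvable_of_cycles _ ![0, 1, 2, 3, 4] (by decide) ?_ ?_
    · have e : swap ((![0, 1, 2, 3, 4] : Fin 5 → Fin 5) 0) ((![0, 1, 2, 3, 4] : Fin 5 → Fin 5) 1) *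
          swap ((![0, 1, 2, 3, 4] : Fin 5 → Fin 5) 1) ((![0, 1, 2, 3, 4] : Fin 5 → Fin 5) 2) = formPerm [0, 1, 2] := by decide
      rw [e]
      exact Subgroup.subset_closure (by simp)
    · have e : swap ((![0, 1, 2, 3, 4] : Fin 5 → Fin 5) 2) ((![0, 1, 2, 3, 4] : Fin 5 → Fin 5) 3) *
          swap ((![0, 1, 2, 3, 4] : Fin 5 → Fin 5) 3) ((![0, 1, 2, 3, 4] : Fin 5 → Fin 5) 4) = formPerm [2, 3, 4] := by decide
      rw [e]
      exact Subgroup.subset_closure (by simp)
  · exact not_three_pow_of_five (by decide) (by decide)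


/-- A pattern for the explicit checks. -/
theorem bad_of_T {m : ℕ} (a v T T' : Perm (Fin m)) (e : Fin 5 → Fin m) (he : Function.Injective e)
    (hT : T ∈ Subgroup.closure ({a, v} : Set (Perm (Fin m))))
    (hT' : T' ∈ Subgroup.closure ({a, v} : Set (Perm (Fin m))))
    (h1 : swap (e 0) (e 1) * swap (e 1) (e 2) = T) (h2 : swap (e 2) (e 3) * swap (e 3) (e 4) = T')
    (ho : ¬ ∃ k : ℕ, orderOf (a * v) = 3 ^ k) : Bad 3 a v :=
  ⟨not_solvable_of_cycles _ e he (h1 ▸ hT) (h2 ▸ hT'), ho⟩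

theorem memA {m : ℕ} (a v : Perm (Fin m)) : a ∈ Subgroup.closure ({a, v} : Set (Perm (Fin m))) :=
  Subgroup.subset_closure (by simp)

theorem memV {m : ℕ} (a v : Perm (Fin m)) : v ∈ Subgroup.closure ({a, v} : Set (Perm (Fin m))) :=
  Subgroup.subset_closure (by simp)

set_option maxRecDepth 100000 in
/-- Degree six: two three-cycles each. -/
theorem d33_33 : Bad 3 (formPerm [0, 1, 2] * formPerm [3, 4, 5] : Perm (Fin 6)) (formPerm [0, 3, 1] * formPerm [2, 4, 5]) := by
  refine ⟨?_, not_three_pow_of_five (by decide) (by decide)⟩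
  refine not_solvable_of_rel _ (memA _ _) (memV _ _) ?_ ?_ ?_
  · decide
  · decide
  · decide

set_option maxRecDepth 100000 in
/-- Degree six: two three-cycles against one. -/
theorem d33_3 : Bad 3 (formPerm [0, 1, 2] * formPerm [3, 4, 5] : Perm (Fin 6)) (formPerm [2, 3, 5]) := by
  have hv := memV (formPerm [0, 1, 2] * formPerm [3, 4, 5] : Perm (Fin 6)) (formPerm [2, 3, 5])
  have ha := memA (formPerm [0, 1, 2] * formPerm [3, 4, 5] : Perm (Fin 6)) (formPerm [2, 3, 5])
  refine bad_of_T _ _ _ _ ![5, 2, 3, 0, 4] (by decide) hv (mul_mem (mul_mem ha hv) (inv_mem ha)) ?_ ?_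
    (not_three_pow_of_five (by decide) (by decide))
  · decide
  · decide

set_option maxRecDepth 100000 in
/-- Degree six: one three-cycle against two. -/
theorem d3_33 : Bad 3 (formPerm [0, 1, 2] : Perm (Fin 6)) (formPerm [2, 3, 5] * formPerm [0, 4, 1]) := by
  have hv := memV (formPerm [0, 1, 2] : Perm (Fin 6)) (formPerm [2, 3, 5] * formPerm [0, 4, 1])
  have ha := memA (formPerm [0, 1, 2] : Perm (Fin 6)) (formPerm [2, 3, 5] * formPerm [0, 4, 1])
  refine bad_of_T _ _ _ _ ![1, 2, 0, 3, 4] (by decide) ha (mul_mem (mul_mem hv ha) (inv_mem hv)) ?_ ?_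
    (not_three_pow_of_five (by decide) (by decide))
  · decide
  · decide

set_option maxRecDepth 200000 in
/-- Degree nine: a nine-cycle against two three-cycles. -/
theorem d9_33 : Bad 3 (formPerm (List.finRange 9)) (formPerm [7, 5, 4] * formPerm [1, 0, 3]) := by
  have hv := memV (formPerm (List.finRange 9)) (formPerm [7, 5, 4] * formPerm [1, 0, 3])
  have ha := memA (formPerm (List.finRange 9)) (formPerm [7, 5, 4] * formPerm [1, 0, 3])
  refine bad_of_T _ _ _ _ ![4, 0, 8, 3, 7] (by decide) (pow_mem (mul_mem ha hv) 2)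
    (pow_mem (mul_mem (inv_mem ha) (inv_mem hv)) 2) ?_ ?_ ?_
  · decide
  · decide
  · refine not_ppow Nat.prime_three (by norm_num) (m := 3) rfl ?_ ?_
    · decide
    · decide

set_option maxRecDepth 200000 in
/-- Degree nine: a nine-cycle against three three-cycles. -/
theorem d9_333 : Bad 3 (formPerm (List.finRange 9)) (formPerm [2, 1, 7] * formPerm [6, 5, 3] * formPerm [4, 8, 0]) := by
  have hv := memV (formPerm (List.finRange 9)) (formPerm [2, 1, 7] * formPerm [6, 5, 3] * formPerm [4, 8, 0])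
  have ha := memA (formPerm (List.finRange 9)) (formPerm [2, 1, 7] * formPerm [6, 5, 3] * formPerm [4, 8, 0])
  refine bad_of_T _ _ _ _ ![5, 0, 4, 3, 8] (by decide) (pow_mem (mul_mem ha hv) 2)
    (pow_mem (mul_mem (inv_mem ha) (inv_mem hv)) 2) ?_ ?_ ?_
  · decide
  · decide
  · refine not_ppow Nat.prime_three (by norm_num) (m := 3) rfl ?_ ?_
    · decide
    · decide

end Cfsg.Agent.Lib.AltPElt.Small
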