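import Mathlib
import Cfsg.Agent.Lib.AltPElt.Small

/-!
The designs assembled: for a long cycle of `p`-power length and any `p`-element type that fits,
there is a permutation of that type forming a bad pair with the long cycle.
-/

set_option autoImplicit false
set_option linter.unusedSectionVars false
set_option linter.unusedVariables false
set_option linter.unusedSimpArgs false

namespace Cfsg.Agent.Lib.AltPElt.Design

open Equiv Equiv.Perm List
open Cfsg.Agent.Lib.AltPElt.Basic Cfsg.Agent.Lib.AltPElt.Core Cfsg.Agent.Lib.AltPElt.Small

/-- The long cycle on `Fin L`. -/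
abbrev longC (L : ℕ) : Perm (Fin L) := formPerm (List.finRange L)

theorem longC_cycleType (L : ℕ) (hL : 2 ≤ L) : (longC L).cycleType = {L} := by
  have := cycleType_formPerm' (List.nodup_finRange L) (by simpa using hL)
  simpa using this

theorem core_design {p a L : ℕ} (hp : p.Prime) (hp3 : 3 ≤ p) (hL : L = p ^ a) (h5 : 5 ≤ L) (M : Multiset ℕ)
    (hM0 : M ≠ 0) (hMp : ∀ x ∈ M, ∃ k, 1 ≤ k ∧ x = p ^ k) (hs : M.sum ≤ L) :
    ∃ v : Perm (Fin L), v.cycleType = M ∧ Bad p (longC L) v := by
  have hp2 : p ≠ 2 := by omega
  have hpodd : Odd p := hp.odd_of_ne_two hp2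
  have hLodd : Odd L := by rw [hL]; exact hpodd.pow
  have hn := List.nodup_finRange L
  have hlen : (List.finRange L).length = L := List.length_finRange
  have hMo : ∀ x ∈ M, Odd x := by
    intro x hx
    obtain ⟨k, -, rfl⟩ := hMp x hx
    exact hpodd.pow
  have hM3 : ∀ x ∈ M, 3 ≤ x := by
    intro x hx
    obtain ⟨k, hk, rfl⟩ := hMp x hx
    calc 3 ≤ p := hp3
      _ = p ^ 1 := (pow_one p).symm
      _ ≤ p ^ k := Nat.pow_le_pow_right hp.pos hk
  by_cases hbig : ∃ l ∈ M, 5 ≤ l
  · obtain ⟨l, hlM, hl5⟩ := hbig
    obtain ⟨M', rfl⟩ := Multiset.exists_cons_of_mem hlM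
    have hsum' : l + M'.sum ≤ L := by simpa using hs
    set ls : List ℕ := M'.toList ++ List.replicate (L - (l + M'.sum)) 1 with hls
    have hlsodd : ∀ x ∈ ls, Odd x := by
      intro x hx
      rw [hls, List.mem_append] at hx
      rcases hx with hx | hx
      · exact hMo x (Multiset.mem_cons_of_mem (Multiset.mem_toList.1 hx))
      · rw [List.eq_of_mem_replicate hx]
        decide
    have hlssum : l + ls.sum = (List.finRange L).length := by
      rw [hlen, hls, List.sum_append, Multiset.sum_toList, List.sum_replicate, smul_eq_mul, mul_one]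
      omega
    obtain ⟨v, hv, hb⟩ := design_one hp hp2 (List.finRange L) hn (by rwa [hlen]) (by rwa [hlen]) l hl5
      (hMo l (Multiset.mem_cons_self l M')) ls hlsodd hlssum
    refine ⟨v, ?_, hb⟩
    rw [hv]
    have hfil : ls.filter (fun x => 2 ≤ x) = M'.toList := by
      rw [hls, List.filter_append]
      have e1 : M'.toList.filter (fun x => 2 ≤ x) = M'.toList := by
        apply List.filter_eq_self.2
        intro x hx
        have := hM3 x (Multiset.mem_cons_of_mem (Multiset.mem_toList.1 hx))
        simp only [decide_eq_true_eq]
        omega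
      have e2 : (List.replicate (L - (l + M'.sum)) 1).filter (fun x => 2 ≤ x) = [] := by
        apply List.filter_eq_nil_iff.2
        intro x hx
        rw [List.eq_of_mem_replicate hx]
        decide
      rw [e1, e2, List.append_nil]
    rw [hfil, Multiset.coe_toList, Multiset.singleton_add]
  · -- only three-cycles
    push Not at hbig
    have h3 : ∀ x ∈ M, x = 3 := by
      intro x hx
      have h1 := hbig x hx
      have h2 := hM3 x hx
      have h4 := hMo x hx
      have := Nat.odd_iff.1 h4
      omega
    obtain ⟨x0, hx0⟩ := Multiset.exists_mem_of_ne_zero hM0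
    have hp3' : p = 3 := by
      obtain ⟨k, hk, hk'⟩ := hMp x0 hx0
      have hx3 := h3 x0 hx0
      rw [hx3] at hk'
      have : p ∣ 3 := by rw [hk']; exact dvd_pow_self p (by omega)
      exact (Nat.prime_dvd_prime_iff_eq hp Nat.prime_three).1 this
    subst hp3'
    have ha2 : 2 ≤ a := by
      by_contra h
      have : a = 0 ∨ a = 1 := by omega
      rcases this with rfl | rfl <;> simp at hL <;> omega
    obtain ⟨t, ht⟩ : ∃ t, M = Multiset.replicate t 3 := ⟨Multiset.card M, Multiset.eq_replicate.2 ⟨rfl, h3⟩⟩
    subst ht
    have ht0 : t ≠ 0 := by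
      rintro rfl
      simp at hM0
    have hsumt : 3 * t ≤ L := by
      simpa [Multiset.sum_replicate, mul_comm] using hs
    by_cases ht1 : t = 1
    · subst ht1
      obtain ⟨v, hv, hb⟩ := design_three a ha2 (List.finRange L) hn (by rw [hlen]; exact hL)
      exact ⟨v, by simpa using hv, hb⟩
    · by_cases h27 : 27 ≤ L
      · set ls : List ℕ := List.replicate (t - 2) 3 ++ List.replicate (L - 3 * t) 1 with hls
        have hlsodd : ∀ x ∈ ls, Odd x := by
          intro x hx
          rw [hls, List.mem_append] at hx
          rcases hx with hx | hx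
          · rw [List.eq_of_mem_replicate hx]; decide
          · rw [List.eq_of_mem_replicate hx]; decide
        have hlssum : 6 + ls.sum = (List.finRange L).length := by
          rw [hlen, hls, List.sum_append, List.sum_replicate, List.sum_replicate, smul_eq_mul, smul_eq_mul]
          omega
        obtain ⟨v, hv, hb⟩ := design_four hp hp2 (List.finRange L) hn (by rwa [hlen]) (by rwa [hlen]) ls hlsodd hlssum
        refine ⟨v, ?_, hb⟩
        rw [hv]
        have hfil : ls.filter (fun x => 2 ≤ x) = List.replicate (t - 2) 3 := by
          rw [hls, List.filter_append]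
          have e1 : (List.replicate (t - 2) 3).filter (fun x => 2 ≤ x) = List.replicate (t - 2) 3 := by
            apply List.filter_eq_self.2
            intro x hx
            rw [List.eq_of_mem_replicate hx]
            decide
          have e2 : (List.replicate (L - 3 * t) 1).filter (fun x => 2 ≤ x) = [] := by
            apply List.filter_eq_nil_iff.2
            intro x hx
            rw [List.eq_of_mem_replicate hx]
            decide
          rw [e1, e2, List.append_nil]
        rw [hfil]
        obtain ⟨t', rfl⟩ : ∃ t', t = t' + 2 := ⟨t - 2, by omega⟩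
        simp only [Nat.add_sub_cancel]
        rw [Multiset.coe_replicate, Multiset.replicate_succ, Multiset.replicate_succ]
        simp
      · have hL9 : L = 9 := by
          have ha3 : a = 2 := by
            by_contra h
            have : 3 ≤ a := by omega
            have h1 : 3 ^ 3 ≤ 3 ^ a := Nat.pow_le_pow_right (by norm_num) this
            omega
          rw [hL, ha3]
          norm_num
        subst hL9
        have ht23 : t = 2 ∨ t = 3 := by omega
        rcases ht23 with rfl | rfl
        · refine ⟨_, ?_, d9_33⟩
          rw [cyc_two _ _ (by decide) (by decide) (by unfold List.Disjoint; decide) (by decide) (by decide)]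
          rfl
        · refine ⟨_, ?_, d9_333⟩
          have hd1 : Equiv.Perm.Disjoint (formPerm [2, 1, 7] * formPerm [6, 5, 3] : Perm (Fin 9)) (formPerm [4, 8, 0]) := by
            unfold Equiv.Perm.Disjoint
            decide
          rw [Equiv.Perm.Disjoint.cycleType_mul hd1, cyc_two _ _ (by decide) (by decide) (by unfold List.Disjoint; decide) (by decide) (by decide),
            cycleType_formPerm' (by decide) (by decide)]
          rfl

/-- Both parities when the second element is itself a long cycle. -/
theorem core_even {p a L : ℕ} (hp : p.Prime) (hp3 : 3 ≤ p) (hL : L = p ^ a) (h5 : 5 ≤ L) :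
    ∃ v τ : Perm (Fin L), v.cycleType = {L} ∧ sign τ = -1 ∧ Bad p (longC L) v ∧ Bad p (longC L) (τ * v * τ⁻¹) := by
  have hp2 : p ≠ 2 := by omega
  have hpodd : Odd p := hp.odd_of_ne_two hp2
  have hLodd : Odd L := by rw [hL]; exact hpodd.pow
  have hn := List.nodup_finRange L
  have hlen : (List.finRange L).length = L := List.length_finRange
  obtain ⟨v, τ, h1, h2, h3, h4⟩ := design_even hp hp2 (List.finRange L) hn (by rwa [hlen]) (by rwa [hlen]) (by
    rw [hlen]
    intro h hp'
    subst hp'
    have : 3 ∣ L := by
      rw [hL]
      apply dvd_pow_self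
      rintro rfl
      simp at hL
      omega
    omega)
  exact ⟨v, τ, by rw [h1, hlen], h2, h3, h4⟩

end Cfsg.Agent.Lib.AltPElt.Design
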