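import Mathlib
import Cfsg.Agent.Lib.AltPElt.Design

/-!
From a design on a block to a bad pair on the whole set.
-/

set_option autoImplicit false
set_option linter.unusedSectionVars false
set_option linter.unusedVariables false
set_option linter.unusedSimpArgs false

namespace Cfsg.Agent.Lib.AltPElt.Assemble

open Equiv Equiv.Perm
open Cfsg.Agent.Lib.AltPElt.Basic Cfsg.Agent.Lib.AltPElt.Core Cfsg.Agent.Lib.AltPElt.Small
  Cfsg.Agent.Lib.AltPElt.Design

universe u

theorem exists_equiv_conj {X Y : Type*} [Fintype X] [Fintype Y] [DecidableEq X] [DecidableEq Y] (a : Perm X) (b : Perm Y)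
    (h : Fintype.card X = Fintype.card Y) (hc : a.cycleType = b.cycleType) :
    ∃ e : X ≃ Y, ∀ x, e (a x) = b (e x) := by
  classical
  let e₁ : X ≃ Y := Fintype.equivOfCardEq h
  let f : X ≃ {y : Y // True} := e₁.trans (Equiv.subtypeUnivEquiv (fun _ => trivial)).symm
  let a' : Perm Y := a.extendDomain f
  have h1 : a'.cycleType = a.cycleType := cycleType_extendDomain f
  have h2 : IsConj a' b := isConj_iff_cycleType_eq.2 (h1.trans hc)
  obtain ⟨g, hg⟩ := isConj_iff.1 h2
  refine ⟨e₁.trans g, fun x => ?_⟩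
  have h3 : a' (e₁ x) = e₁ (a x) := by
    exact extendDomain_apply_image a f x
  rw [← hg]
  simp only [Equiv.trans_apply, Perm.mul_apply]
  rw [← Perm.mul_apply g⁻¹, inv_mul_cancel, Perm.one_apply, h3]

variable {α : Type u} [DecidableEq α] [Fintype α]

theorem sign_of_same {β : Type*} [DecidableEq β] [Fintype β] {x : Perm α} {y : Perm β}
    (h : x.cycleType = y.cycleType) : sign x = sign y := by
  rw [sign_of_cycleType, sign_of_cycleType, h]

/-- The homomorphism attached to a block. -/
theorem block_hom (u c : Perm α) (D : Finset α) (h1 : ∀ x ∈ D, u x = c x) (h2 : ∀ x, c x ≠ x → x ∈ D) {m k : ℕ}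
    (hm : D.card = m) (hk : Fintype.card α = m + k) (a₀ : Perm (Fin m)) (ha : a₀.cycleType = c.cycleType) :
    ∃ (Φ : Perm (Fin m) × Perm (Fin k) →* Perm α) (u₂ : Perm (Fin k)), Function.Injective Φ ∧ u = Φ (a₀, u₂) ∧
      (∀ x y, (Φ (x, y)).cycleType = x.cycleType + y.cycleType) ∧ (∀ x, sign (Φ (x, 1)) = sign x) := by
  classical
  have hcfix : ∀ x, x ∉ D → c x = x := fun x hx => by
    by_contra h
    exact hx (h2 x h)
  have hcD : ∀ x ∈ D, c x ∈ D := by
    intro x hx
    by_cases h : c x = x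
    · rwa [h]
    · apply h2
      intro h'
      exact h (c.injective h')
  have hmaps : ∀ x, (u x ∈ D) ↔ x ∈ D := by
    intro x
    constructor
    · intro hx
      by_contra hnx
      have hy : c⁻¹ (u x) ∈ D := by
        by_contra hy
        have := hcfix _ hy
        rw [← Perm.mul_apply, mul_inv_cancel, Perm.one_apply] at this
        rw [this] at hx
        exact hy hx
      have h3 := h1 _ hy
      rw [← Perm.mul_apply c, mul_inv_cancel, Perm.one_apply] at h3
      have := u.injective h3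
      rw [← this] at hnx
      exact hnx hy
    · intro hx
      rw [h1 x hx]
      exact hcD x hx
  have hmaps' : ∀ x, (¬ u x ∈ D) ↔ ¬ x ∈ D := fun x => not_congr (hmaps x)
  let u₁ : Perm {x // x ∈ D} := u.subtypePerm hmaps
  let u₂' : Perm {x // ¬ x ∈ D} := u.subtypePerm hmaps'
  have hu1 : ofSubtype u₁ = c := by
    ext x
    by_cases hx : x ∈ D
    · rw [ofSubtype_apply_of_mem u₁ hx]
      exact h1 x hx
    · rw [ofSubtype_apply_of_not_mem u₁ hx, hcfix x hx]
  have hcy1 : a₀.cycleType = u₁.cycleType := by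
    rw [ha, ← hu1, cycleType_ofSubtype]
  have hcard1 : Fintype.card (Fin m) = Fintype.card {x // x ∈ D} := by
    rw [Fintype.card_fin, Fintype.card_coe, hm]
  obtain ⟨e₀, he₀⟩ := exists_equiv_conj a₀ u₁ hcard1 hcy1
  have hcard2 : Fintype.card (Fin k) = Fintype.card {x // ¬ x ∈ D} := by
    rw [Fintype.card_fin, Fintype.card_subtype_compl, Fintype.card_coe, hm, hk]
    omega
  let e₁ : Fin k ≃ {x // ¬ x ∈ D} := Fintype.equivOfCardEq hcard2
  let u₂ : Perm (Fin k) := e₁.trans (u₂'.trans e₁.symm)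
  let F₀ := extendDomainHom e₀
  let F₁ := extendDomainHom e₁
  have hF0out : ∀ (x : Perm (Fin m)) (z : α), ¬ z ∈ D → F₀ x z = z := by
    intro x z hz
    exact extendDomain_apply_not_subtype x e₀ hz
  have hF1in : ∀ (y : Perm (Fin k)) (z : α), z ∈ D → F₁ y z = z := by
    intro y z hz
    exact extendDomain_apply_not_subtype y e₁ (by simpa using hz)
  have hF0 : ∀ (x : Perm (Fin m)) (i : Fin m), F₀ x (e₀ i) = e₀ (x i) := by
    intro x i
    exact extendDomain_apply_image x e₀ i
  have hF1 : ∀ (y : Perm (Fin k)) (j : Fin k), F₁ y (e₁ j) = e₁ (y j) := by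
    intro y j
    exact extendDomain_apply_image y e₁ j
  have hdis : ∀ x y, Perm.Disjoint (F₀ x) (F₁ y) := by
    intro x y z
    by_cases hz : z ∈ D
    · right; exact hF1in y z hz
    · left; exact hF0out x z hz
  have hcomm : ∀ x y, Commute (F₀ x) (F₁ y) := fun x y => (hdis x y).commute
  let Φ : Perm (Fin m) × Perm (Fin k) →* Perm α := MonoidHom.noncommCoprod F₀ F₁ hcomm
  have hΦ : ∀ x y, Φ (x, y) = F₀ x * F₁ y := fun x y => rfl
  refine ⟨Φ, u₂, ?_, ?_, ?_, ?_⟩
  · rintro ⟨x, y⟩ ⟨x', y'⟩ h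
    rw [hΦ, hΦ] at h
    have ex : x = x' := by
      ext i
      have h3 := congrArg (fun f : Perm α => f (e₀ i : α)) h
      simp only [Perm.mul_apply] at h3
      rw [hF1in y _ (e₀ i).2, hF1in y' _ (e₀ i).2, hF0, hF0] at h3
      have := e₀.injective (Subtype.ext h3)
      rw [this]
    have ey : y = y' := by
      ext j
      have h3 := congrArg (fun f : Perm α => f (e₁ j : α)) h
      simp only [Perm.mul_apply] at h3
      rw [hF1, hF1, hF0out x _ (e₁ (y j)).2, hF0out x' _ (e₁ (y' j)).2] at h3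
      have := e₁.injective (Subtype.ext h3)
      rw [this]
    rw [ex, ey]
  · ext z
    rw [hΦ, Perm.mul_apply]
    by_cases hz : z ∈ D
    · rw [hF1in _ _ hz]
      obtain ⟨i, hi⟩ := e₀.surjective ⟨z, hz⟩
      have hzi : z = e₀ i := by rw [hi]
      rw [hzi, hF0, he₀]
      rfl
    · obtain ⟨j, hj⟩ := e₁.surjective ⟨z, hz⟩
      have hzj : z = e₁ j := by rw [hj]
      rw [hzj, hF1, hF0out _ _ (e₁ (u₂ j)).2]
      simp only [u₂, Equiv.trans_apply, Equiv.apply_symm_apply]
      rfl
  · intro x y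
    rw [hΦ, (hdis x y).cycleType_mul]
    congr 1
    · exact cycleType_extendDomain e₀
    · exact cycleType_extendDomain e₁
  · intro x
    apply sign_of_same
    rw [hΦ, map_one, mul_one]
    exact cycleType_extendDomain e₀

theorem bad_lift {m k : ℕ} {p : ℕ} (hp : p.Prime) (Φ : Perm (Fin m) × Perm (Fin k) →* Perm α) (hΦ : Function.Injective Φ)
    {a v : Perm (Fin m)} (a' v' : Perm (Fin k)) (h : Bad p a v) : Bad p (Φ (a, a')) (Φ (v, v')) := by
  apply bad_map_inj Φ hΦ
  apply bad_of_hom (MonoidHom.fst (Perm (Fin m)) (Perm (Fin k))) hp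
  simpa only [MonoidHom.coe_fst] using h

theorem bad_conj {G : Type*} [Group G] {p : ℕ} (g : G) {a b : G} (h : Bad p a b) :
    Bad p (g * a * g⁻¹) (g * b * g⁻¹) := by
  have h2 := bad_map_inj (MulAut.conj g).toMonoidHom (MulEquiv.injective _) h
  simpa only [MulEquiv.toMonoidHom_eq_coe, MonoidHom.coe_coe, MulAut.conj_apply] using h2

theorem bad_swap {G : Type*} [Group G] {p : ℕ} {a b : G} (h : Bad p a b) : Bad p b a := by
  constructor
  · rw [Set.pair_comm]
    exact h.1
  · have e : b * a = (MulAut.conj b) (a * b) := by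
      rw [MulAut.conj_apply]; group
    have e2 := orderOf_injective (MulAut.conj b).toMonoidHom (MulEquiv.injective _) (a * b)
    rw [e]
    have e3 : orderOf ((MulAut.conj b) (a * b)) = orderOf (a * b) := e2
    rw [e3]
    exact h.2

/-- Splitting a multiset of prime powers. -/
theorem split_powers {p : ℕ} (hp : p.Prime) : ∀ (n : ℕ) (W : Multiset ℕ) (R : ℕ), Multiset.card W = n →
    (∀ x ∈ W, ∃ k, x = p ^ k) → (∀ x ∈ W, x ∣ R) →
    ∃ M₁ M₂ : Multiset ℕ, W = M₁ + M₂ ∧ M₁.sum ≤ R ∧ (M₁.sum = R ∨ M₂ = 0) ∧ (0 < R → W ≠ 0 → M₁ ≠ 0) := by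
  intro n
  induction n with
  | zero =>
    intro W R h _ _
    have : W = 0 := Multiset.card_eq_zero.1 h
    subst this
    exact ⟨0, 0, by simp, by simp, by simp, by simp⟩
  | succ n ih =>
    intro W R h hW hd
    by_cases hR : R = 0
    · subst hR
      refine ⟨0, W, by simp, by simp, by simp, by simp⟩
    have hne : W.toFinset.Nonempty := by
      rw [Multiset.toFinset_nonempty]
      intro h0
      simp [h0] at h
    obtain ⟨x, hx, hmax⟩ := Finset.exists_max_image W.toFinset id hne
    have hxW : x ∈ W := Multiset.mem_toFinset.1 hx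
    obtain ⟨k, hk⟩ := hW x hxW
    have hdvd : ∀ y ∈ W.erase x, y ∣ x := by
      intro y hy
      have hyW := Multiset.mem_of_mem_erase hy
      obtain ⟨j, hj⟩ := hW y hyW
      have hle : y ≤ x := hmax y (Multiset.mem_toFinset.2 hyW)
      rw [hj, hk] at hle ⊢
      exact pow_dvd_pow p ((Nat.pow_le_pow_iff_right hp.one_lt).1 hle)
    have hxR : x ≤ R := Nat.le_of_dvd (by omega) (hd x hxW)
    obtain ⟨M₁, M₂, h1, h2, h3, -⟩ := ih (W.erase x) (R - x) (by
        rw [Multiset.card_erase_of_mem hxW, h]; rfl)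
      (fun y hy => hW y (Multiset.mem_of_mem_erase hy))
      (fun y hy => by
        apply (Nat.dvd_sub (hd y (Multiset.mem_of_mem_erase hy)) ((hdvd y hy).trans (dvd_refl x))))
    refine ⟨x ::ₘ M₁, M₂, ?_, ?_, ?_, ?_⟩
    · rw [Multiset.cons_add, ← h1, Multiset.cons_erase hxW]
    · rw [Multiset.sum_cons]
      omega
    · rcases h3 with h3 | h3
      · left
        rw [Multiset.sum_cons]
        omega
      · right; exact h3
    · intro _ _
      exact Multiset.cons_ne_zero

end Cfsg.Agent.Lib.AltPElt.Assemble
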