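import Mathlib
import Cfsg.Agent.Lib.AltPElt.Assemble

/-!
Bad conjugates of `p`-elements in alternating groups.
-/

set_option autoImplicit false
set_option linter.unusedSectionVars false
set_option linter.unusedVariables false
set_option linter.unusedSimpArgs false

namespace Cfsg.Agent.Lib.AltPElt.Main

open Equiv Equiv.Perm List
open Cfsg.Agent.Lib.AltPElt.Basic Cfsg.Agent.Lib.AltPElt.Core Cfsg.Agent.Lib.AltPElt.Small
  Cfsg.Agent.Lib.AltPElt.Design Cfsg.Agent.Lib.AltPElt.Assemble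

universe u

variable {α : Type u} [DecidableEq α] [Fintype α]

/-- Sum bound for distinct prime powers. -/
theorem sum_lt_of_nodup {p a : ℕ} (hp : p.Prime) (ha : 1 ≤ a) (W : Multiset ℕ) (hn : W.Nodup)
    (hW : ∀ x ∈ W, ∃ k, 1 ≤ k ∧ k < a ∧ x = p ^ k) : W.sum + 1 < p ^ a := by
  classical
  have e1 : W.sum = ∑ x ∈ W.toFinset, x := by
    rw [Finset.sum_eq_multiset_sum, Multiset.toFinset_val, Multiset.dedup_eq_self.2 hn]
    simp
  let s : Finset ℕ := W.toFinset.image (fun x => Nat.log p x)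
  have hinj : Set.InjOn (fun x => Nat.log p x) (W.toFinset : Set ℕ) := by
    intro x hx y hy hxy
    obtain ⟨k, -, -, rfl⟩ := hW x (Multiset.mem_toFinset.1 hx)
    obtain ⟨j, -, -, rfl⟩ := hW y (Multiset.mem_toFinset.1 hy)
    simp only [Nat.log_pow hp.one_lt] at hxy
    rw [hxy]
  have e2 : ∑ x ∈ W.toFinset, x = ∑ k ∈ s, p ^ k := by
    rw [Finset.sum_image hinj]
    apply Finset.sum_congr rfl
    intro x hx
    obtain ⟨k, -, -, rfl⟩ := hW x (Multiset.mem_toFinset.1 hx)
    simp only [Nat.log_pow hp.one_lt]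
  have h0 : 0 ∉ s := by
    intro h
    obtain ⟨x, hx, hx0⟩ := Finset.mem_image.1 h
    obtain ⟨k, hk, -, rfl⟩ := hW x (Multiset.mem_toFinset.1 hx)
    simp only [Nat.log_pow hp.one_lt] at hx0
    omega
  have h1 : ∀ k ∈ insert 0 s, k < a := by
    intro k hk
    rcases Finset.mem_insert.1 hk with rfl | hk
    · omega
    · obtain ⟨x, hx, rfl⟩ := Finset.mem_image.1 hk
      obtain ⟨j, -, hj, rfl⟩ := hW x (Multiset.mem_toFinset.1 hx)
      simp only [Nat.log_pow hp.one_lt]
      exact hj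
  have h2 := Nat.geomSum_lt hp.two_le h1
  rw [Finset.sum_insert h0, pow_zero] at h2
  rw [e1, e2]
  omega

/-- Sign alternatives. -/
theorem sign_cases (h : Perm α) : sign h = 1 ∨ sign h = -1 := Int.units_eq_one_or _

/-- Assembling for long cycles of length at least five. -/
theorem main_big {p a L : ℕ} (hp : p.Prime) (hp3 : 3 ≤ p) (hL : L = p ^ a) (h5 : 5 ≤ L) (u w : Perm α)
    (hLu : L ∈ u.cycleType) (hW : ∀ x ∈ w.cycleType, ∃ k, 1 ≤ k ∧ x = p ^ k) (hWL : ∀ x ∈ w.cycleType, x ≤ L)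
    (hw1 : w ≠ 1) : ∃ g : Perm α, sign g = 1 ∧ Bad p u (g * w * g⁻¹) := by
  classical
  have ha1 : 1 ≤ a := by
    by_contra h
    have : a = 0 := by omega
    subst this
    simp at hL
    omega
  rw [cycleType_def, Multiset.mem_map] at hLu
  obtain ⟨c, hc, hcL⟩ := hLu
  have hcf : c ∈ u.cycleFactorsFinset := hc
  rw [mem_cycleFactorsFinset_iff] at hcf
  obtain ⟨hcc, hcu⟩ := hcf
  have hcL' : c.support.card = L := hcL
  have hcty : c.cycleType = {L} := by rw [hcc.cycleType, hcL']
  have hLn : L ≤ Fintype.card α := by rw [← hcL']; exact Finset.card_le_univ _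
  obtain ⟨k, hk⟩ : ∃ k, Fintype.card α = L + k := ⟨Fintype.card α - L, by omega⟩
  obtain ⟨Φ, u₂, hinj, hu, hcy, hsg⟩ := block_hom u c c.support (fun x hx => (hcu x hx).symm)
    (fun x hx => mem_support.2 hx) hcL' hk (longC L) (by rw [longC_cycleType L (by omega), hcty])
  have hsumW : w.cycleType.sum ≤ L + k := by
    rw [← hk]; exact sum_cycleType_le w
  by_cases hcen : Subgroup.centralizer {w} ≤ alternatingGroup α
  · obtain ⟨-, hcard, hcount⟩ := centralizer_le_alternating_iff.1 hcen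
    have hnd : w.cycleType.Nodup := Multiset.nodup_iff_count_le_one.2 hcount
    have hLW : L ∈ w.cycleType := by
      by_contra hn
      have hb := sum_lt_of_nodup hp ha1 _ hnd (by
        intro x hx
        obtain ⟨j, hj, rfl⟩ := hW x hx
        refine ⟨j, hj, ?_, rfl⟩
        have h1 := hWL _ hx
        have h2 : p ^ j ≠ L := fun h => hn (h ▸ hx)
        have h3 : p ^ j < p ^ a := by
          rw [← hL]; omega
        exact (Nat.pow_lt_pow_iff_right hp.one_lt).1 h3)
      rw [← hL] at hb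
      omega
    obtain ⟨M₂, hM₂⟩ := Multiset.exists_cons_of_mem hLW
    obtain ⟨v₀, τ₀, hv₀, hτ₀, hb1, hb2⟩ := core_even hp hp3 hL h5
    have hsum2 : M₂.sum ≤ Fintype.card (Fin k) := by
      rw [hM₂, Multiset.sum_cons] at hsumW
      rw [Fintype.card_fin]
      omega
    obtain ⟨v₂, hv₂⟩ := (exists_with_cycleType_iff (Fin k)).2 ⟨hsum2, fun x hx => two_le_of_mem_cycleType (by rw [hM₂]; exact Multiset.mem_cons_of_mem hx)⟩
    have hvt : (Φ (v₀, v₂)).cycleType = w.cycleType := by
      rw [hcy, hv₀, hv₂, hM₂, Multiset.singleton_add]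
    obtain ⟨g, hg⟩ := isConj_iff.1 (isConj_iff_cycleType_eq.2 hvt.symm)
    have hBad1 : Bad p u (Φ (v₀, v₂)) := by
      rw [hu]
      exact bad_lift hp Φ hinj _ _ hb1
    have hτs : sign (Φ (τ₀, 1)) = -1 := by rw [hsg, hτ₀]
    have hconj : Φ (τ₀, 1) * Φ (v₀, v₂) * (Φ (τ₀, 1))⁻¹ = Φ (τ₀ * v₀ * τ₀⁻¹, v₂) := by
      rw [← map_inv, ← map_mul, ← map_mul]
      congr 1
    have hBad2 : Bad p u (Φ (τ₀, 1) * Φ (v₀, v₂) * (Φ (τ₀, 1))⁻¹) := by
      rw [hconj, hu]
      exact bad_lift hp Φ hinj _ _ hb2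
    rcases sign_cases g with hs | hs
    · exact ⟨g, hs, by rw [hg]; exact hBad1⟩
    · refine ⟨Φ (τ₀, 1) * g, by rw [map_mul, hτs, hs]; rfl, ?_⟩
      have : Φ (τ₀, 1) * g * w * (Φ (τ₀, 1) * g)⁻¹ = Φ (τ₀, 1) * (g * w * g⁻¹) * (Φ (τ₀, 1))⁻¹ := by group
      rw [this, hg]
      exact hBad2
  · -- an odd element in the centraliser of `w`
    have hexh : ∃ h ∈ Subgroup.centralizer {w}, sign h = -1 := by
      rw [SetLike.not_le_iff_exists] at hcen
      obtain ⟨h, h1, h2⟩ := hcen
      refine ⟨h, h1, ?_⟩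
      rcases sign_cases h with hs | hs
      · exact absurd (Equiv.Perm.mem_alternatingGroup.2 hs) h2
      · exact hs
    obtain ⟨h, hhc, hhs⟩ := hexh
    obtain ⟨M₁, M₂, hsplit, hs1, hs2, hs3⟩ := split_powers hp _ w.cycleType L rfl
      (fun x hx => by
        obtain ⟨j, -, rfl⟩ := hW x hx
        exact ⟨j, rfl⟩)
      (fun x hx => by
        have h1 := hWL x hx
        obtain ⟨j, -, rfl⟩ := hW x hx
        rw [hL] at h1 ⊢
        exact pow_dvd_pow p ((Nat.pow_le_pow_iff_right hp.one_lt).1 h1))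
    have hW0 : w.cycleType ≠ 0 := by
      rw [Ne, cycleType_eq_zero]
      exact hw1
    have hM10 := hs3 (by omega) hW0
    have hmem1 : ∀ x ∈ M₁, x ∈ w.cycleType := fun x hx => by rw [hsplit]; exact Multiset.mem_add.2 (Or.inl hx)
    have hmem2 : ∀ x ∈ M₂, x ∈ w.cycleType := fun x hx => by rw [hsplit]; exact Multiset.mem_add.2 (Or.inr hx)
    obtain ⟨v₀, hv₀, hb1⟩ := core_design hp hp3 hL h5 M₁ hM10 (fun x hx => hW x (hmem1 x hx)) hs1
    have hsum2 : M₂.sum ≤ Fintype.card (Fin k) := by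
      rw [Fintype.card_fin]
      rw [hsplit, Multiset.sum_add] at hsumW
      rcases hs2 with h1 | h1
      · omega
      · subst h1; simp
    obtain ⟨v₂, hv₂⟩ := (exists_with_cycleType_iff (Fin k)).2 ⟨hsum2, fun x hx => two_le_of_mem_cycleType (hmem2 x hx)⟩
    have hvt : (Φ (v₀, v₂)).cycleType = w.cycleType := by
      rw [hcy, hv₀, hv₂, hsplit]
    obtain ⟨g, hg⟩ := isConj_iff.1 (isConj_iff_cycleType_eq.2 hvt.symm)
    have hBad1 : Bad p u (Φ (v₀, v₂)) := by
      rw [hu]
      exact bad_lift hp Φ hinj _ _ hb1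
    rcases sign_cases g with hs | hs
    · exact ⟨g, hs, by rw [hg]; exact hBad1⟩
    · refine ⟨g * h, by rw [map_mul, hhs, hs]; rfl, ?_⟩
      have hcw : h * w = w * h := (Subgroup.mem_centralizer_iff.1 hhc w (by simp)).symm
      have : g * h * w * (g * h)⁻¹ = g * w * g⁻¹ := by
        calc g * h * w * (g * h)⁻¹ = g * (h * w) * h⁻¹ * g⁻¹ := by group
          _ = g * w * g⁻¹ := by rw [hcw]; group
      rw [this, hg]
      exact hBad1


/-- Closing lemma for a block, when the centraliser of `u` contains an odd element. -/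
theorem close_block {p : ℕ} (hp : p.Prime) (u w c : Perm α) (D : Finset α) (h1 : ∀ x ∈ D, u x = c x)
    (h2 : ∀ x, c x ≠ x → x ∈ D) {m k : ℕ} (hm : D.card = m) (hk : Fintype.card α = m + k)
    (a₀ v₀ : Perm (Fin m)) (ha : a₀.cycleType = c.cycleType) (M₂ : Multiset ℕ)
    (hW : w.cycleType = v₀.cycleType + M₂) (hsum : M₂.sum ≤ k) (hM2 : ∀ x ∈ M₂, 2 ≤ x) (hbad : Bad p a₀ v₀)
    (h : Perm α) (hh : h ∈ Subgroup.centralizer {u}) (hhs : sign h = -1) :
    ∃ g : Perm α, sign g = 1 ∧ Bad p u (g * w * g⁻¹) := by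
  classical
  obtain ⟨Φ, u₂, hinj, hu, hcy, hsg⟩ := block_hom u c D h1 h2 hm hk a₀ ha
  obtain ⟨v₂, hv₂⟩ := (exists_with_cycleType_iff (Fin k)).2 ⟨by rwa [Fintype.card_fin], hM2⟩
  have hvt : (Φ (v₀, v₂)).cycleType = w.cycleType := by
    rw [hcy, hv₂, hW]
  obtain ⟨g, hg⟩ := isConj_iff.1 (isConj_iff_cycleType_eq.2 hvt.symm)
  have hBad1 : Bad p u (Φ (v₀, v₂)) := by
    rw [hu]
    exact bad_lift hp Φ hinj _ _ hbad
  rcases sign_cases g with hs | hs
  · exact ⟨g, hs, by rw [hg]; exact hBad1⟩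
  · refine ⟨h * g, by rw [map_mul, hhs, hs]; rfl, ?_⟩
    have hcu : h * u = u * h := (Subgroup.mem_centralizer_iff.1 hh u (by simp)).symm
    have e1 : h * g * w * (h * g)⁻¹ = h * (g * w * g⁻¹) * h⁻¹ := by group
    have e2 : u = h * u * h⁻¹ := by rw [hcu]; group
    rw [e1, hg]
    have := bad_conj h hBad1
    rwa [← e2] at this

/-- The case of cycles of length three only. -/
theorem main_three (u w : Perm α) (hU : ∀ x ∈ u.cycleType, x = 3) (hW : ∀ x ∈ w.cycleType, x = 3)
    (hu1 : u ≠ 1) (hw1 : w ≠ 1) (hn : 5 ≤ Fintype.card α) :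
    ∃ g : Perm α, sign g = 1 ∧ Bad 3 u (g * w * g⁻¹) := by
  classical
  obtain ⟨s, hs⟩ : ∃ s, u.cycleType = Multiset.replicate s 3 := ⟨_, Multiset.eq_replicate.2 ⟨rfl, hU⟩⟩
  obtain ⟨t, ht⟩ : ∃ t, w.cycleType = Multiset.replicate t 3 := ⟨_, Multiset.eq_replicate.2 ⟨rfl, hW⟩⟩
  have hs0 : s ≠ 0 := by
    rintro rfl
    exact hu1 (cycleType_eq_zero.1 (by simpa using hs))
  have ht0 : t ≠ 0 := by
    rintro rfl
    exact hw1 (cycleType_eq_zero.1 (by simpa using ht))
  have hsum3 : 3 * t ≤ Fintype.card α := by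
    have := sum_cycleType_le w
    rw [ht, Multiset.sum_replicate, smul_eq_mul, mul_comm] at this
    exact this
  have hsum4 : 3 * s ≤ Fintype.card α := by
    have := sum_cycleType_le u
    rw [hs, Multiset.sum_replicate, smul_eq_mul, mul_comm] at this
    exact this
  -- an odd element in the centraliser of `u`
  have hexh : ∃ h ∈ Subgroup.centralizer {u}, sign h = -1 := by
    by_contra hno
    have hcen : Subgroup.centralizer {u} ≤ alternatingGroup α := by
      intro h hh
      rcases sign_cases h with h1 | h1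
      · exact Equiv.Perm.mem_alternatingGroup.2 h1
      · exact absurd ⟨h, hh, h1⟩ hno
    obtain ⟨-, hcard, hcount⟩ := centralizer_le_alternating_iff.1 hcen
    have h3 := hcount 3
    rw [hs, Multiset.count_replicate_self] at h3
    rw [hs, Multiset.sum_replicate, smul_eq_mul] at hcard
    have : s = 1 := by omega
    subst this
    omega
  obtain ⟨h, hh, hhs⟩ := hexh
  -- the type of the second element
  have hM2 : ∀ (t' : ℕ), ∀ x ∈ Multiset.replicate t' 3, 2 ≤ x := by
    intro t' x hx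
    rw [Multiset.eq_of_mem_replicate hx]
    norm_num
  have hsumt : ∀ t' : ℕ, (Multiset.replicate t' 3).sum = t' * 3 := by
    intro t'
    rw [Multiset.sum_replicate, smul_eq_mul]
  by_cases hs1 : s = 1
  · subst hs1
    have hcyc : u.IsCycle := by
      apply card_cycleType_eq_one.1
      rw [hs]
      simp
    have hsu : u.support.card = 3 := by
      have := sum_cycleType u
      rw [hs] at this
      simpa using this.symm
    by_cases ht1 : t = 1
    · subst ht1
      obtain ⟨D, hD1, hD2⟩ := Finset.exists_superset_card_eq (s := u.support) (n := 5) (by omega) (by simpa using hn)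
      obtain ⟨k, hk⟩ : ∃ k, Fintype.card α = 5 + k := ⟨Fintype.card α - 5, by omega⟩
      refine close_block Nat.prime_three u w u D (fun _ _ => rfl) (fun x hx => hD1 (mem_support.2 hx)) hD2 hk
        (formPerm [0, 1, 2]) (formPerm [2, 3, 4]) ?_ 0 ?_ (by simp) (by simp) d5 h hh hhs
      · rw [cycleType_formPerm' (by decide) (by decide), hs]
        rfl
      · rw [ht, cycleType_formPerm' (by decide) (by decide)]
        rfl
    · have ht2 : 2 ≤ t := by omega
      obtain ⟨t', rfl⟩ : ∃ t', t = t' + 2 := ⟨t - 2, by omega⟩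
      obtain ⟨D, hD1, hD2⟩ := Finset.exists_superset_card_eq (s := u.support) (n := 6) (by omega) (by omega)
      obtain ⟨k, hk⟩ : ∃ k, Fintype.card α = 6 + k := ⟨Fintype.card α - 6, by omega⟩
      refine close_block Nat.prime_three u w u D (fun _ _ => rfl) (fun x hx => hD1 (mem_support.2 hx)) hD2 hk
        (formPerm [0, 1, 2]) (formPerm [2, 3, 5] * formPerm [0, 4, 1]) ?_ (Multiset.replicate t' 3) ?_ (by rw [hsumt]; omega)
        (hM2 t') d3_33 h hh hhs
      · rw [cycleType_formPerm' (by decide) (by decide), hs]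
        rfl
      · rw [ht, cyc_two _ _ (by decide) (by decide) (by unfold List.Disjoint; decide) (by decide) (by decide)]
        rw [Multiset.replicate_succ, Multiset.replicate_succ]
        simp
  · -- two cycles of `u`
    have hs2 : 2 ≤ s := by omega
    have hcard : 1 < u.cycleFactorsFinset.card := by
      have : Multiset.card u.cycleType = u.cycleFactorsFinset.card := by
        rw [cycleType_def]
        simp
      rw [← this, hs, Multiset.card_replicate]
      omega
    obtain ⟨c₁, hc₁, c₂, hc₂, hne⟩ := Finset.one_lt_card.1 hcard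
    have hdis : Perm.Disjoint c₁ c₂ := cycleFactorsFinset_pairwise_disjoint u hc₁ hc₂ hne
    have hm1 := mem_cycleFactorsFinset_iff.1 hc₁
    have hm2 := mem_cycleFactorsFinset_iff.1 hc₂
    have hcard3 : ∀ c ∈ u.cycleFactorsFinset, c.support.card = 3 := by
      intro c hc
      apply hU
      rw [cycleType_def, Multiset.mem_map]
      exact ⟨c, hc, rfl⟩
    have hc1t : c₁.cycleType = {3} := by rw [hm1.1.cycleType, hcard3 c₁ hc₁]
    have hc2t : c₂.cycleType = {3} := by rw [hm2.1.cycleType, hcard3 c₂ hc₂]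
    have hDcard : (c₁.support ∪ c₂.support).card = 6 := by
      rw [Finset.card_union_of_disjoint (disjoint_iff_disjoint_support.1 hdis), hcard3 c₁ hc₁, hcard3 c₂ hc₂]
    have h6 : 6 ≤ Fintype.card α := by omega
    obtain ⟨k, hk⟩ : ∃ k, Fintype.card α = 6 + k := ⟨Fintype.card α - 6, by omega⟩
    have hu1' : ∀ x ∈ c₁.support ∪ c₂.support, u x = (c₁ * c₂) x := by
      intro x hx
      rcases Finset.mem_union.1 hx with hx | hx
      · rw [← hm1.2 x hx, Perm.mul_apply]
        have : c₂ x = x := by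
          rcases hdis x with h0 | h0
          · exact absurd h0 (mem_support.1 hx)
          · exact h0
        rw [this]
      · rw [← hm2.2 x hx, Perm.mul_apply]
        have hx' : c₂ x ∈ c₂.support := apply_mem_support.2 hx
        rcases hdis (c₂ x) with h0 | h0
        · exact h0.symm
        · exact absurd h0 (mem_support.1 hx')
    have hu2' : ∀ x, (c₁ * c₂) x ≠ x → x ∈ c₁.support ∪ c₂.support := by
      intro x hx
      by_contra hn'
      have h3 : c₁ x = x ∧ c₂ x = x := by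
        simp only [Finset.mem_union, mem_support, not_or, not_not] at hn'
        exact hn'
      apply hx
      rw [Perm.mul_apply, h3.2, h3.1]
    have hct : (c₁ * c₂).cycleType = {3} + {3} := by
      rw [hdis.cycleType_mul, hc1t, hc2t]
    have ha₀ : ((formPerm [0, 1, 2] * formPerm [3, 4, 5] : Perm (Fin 6))).cycleType = (c₁ * c₂).cycleType := by
      rw [hct, cyc_two _ _ (by decide) (by decide) (by unfold List.Disjoint; decide) (by decide) (by decide)]
      rfl
    by_cases ht1 : t = 1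
    · subst ht1
      refine close_block Nat.prime_three u w (c₁ * c₂) _ hu1' hu2' hDcard hk
        (formPerm [0, 1, 2] * formPerm [3, 4, 5]) (formPerm [2, 3, 5]) ha₀ 0 ?_ (by simp) (by simp) d33_3 h hh hhs
      rw [ht, cycleType_formPerm' (by decide) (by decide)]
      rfl
    · have ht2 : 2 ≤ t := by omega
      obtain ⟨t', rfl⟩ : ∃ t', t = t' + 2 := ⟨t - 2, by omega⟩
      refine close_block Nat.prime_three u w (c₁ * c₂) _ hu1' hu2' hDcard hk
        (formPerm [0, 1, 2] * formPerm [3, 4, 5]) (formPerm [0, 3, 1] * formPerm [2, 4, 5]) ha₀ (Multiset.replicate t' 3) ?_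
        (by rw [hsumt]; omega) (hM2 t') d33_33 h hh hhs
      rw [ht, cyc_two _ _ (by decide) (by decide) (by unfold List.Disjoint; decide) (by decide) (by decide)]
      rw [Multiset.replicate_succ, Multiset.replicate_succ]
      simp

/-- The theorem on permutations. -/
theorem final_perm {p : ℕ} (hp : p.Prime) (hp3 : 3 ≤ p) (u w : Perm α) (hu1 : u ≠ 1) (hw1 : w ≠ 1)
    (hn : 5 ≤ Fintype.card α) (hu : ∃ k, orderOf u = p ^ k) (hw : ∃ k, orderOf w = p ^ k) :
    ∃ g : Perm α, sign g = 1 ∧ Bad p u (g * w * g⁻¹) := by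
  classical
  have hpow : ∀ v : Perm α, (∃ k, orderOf v = p ^ k) → ∀ x ∈ v.cycleType, ∃ j, 1 ≤ j ∧ x = p ^ j := by
    rintro v ⟨k, hk⟩ x hx
    have hd := dvd_of_mem_cycleType hx
    rw [hk] at hd
    obtain ⟨j, -, hj⟩ := (Nat.dvd_prime_pow hp).1 hd
    refine ⟨j, ?_, hj⟩
    rcases j with _ | j
    · have := two_le_of_mem_cycleType hx
      simp at hj
      omega
    · omega
  have hU := hpow u hu
  have hW := hpow w hw
  have hU0 : u.cycleType ≠ 0 := by rwa [Ne, cycleType_eq_zero]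
  have hW0 : w.cycleType ≠ 0 := by rwa [Ne, cycleType_eq_zero]
  have hne : (u.cycleType + w.cycleType).toFinset.Nonempty := by
    rw [Multiset.toFinset_nonempty]
    simp [hU0]
  obtain ⟨L, hL, hmax⟩ := Finset.exists_max_image _ id hne
  have hLmem := Multiset.mem_toFinset.1 hL
  have hmaxU : ∀ x ∈ u.cycleType, x ≤ L := fun x hx =>
    hmax x (Multiset.mem_toFinset.2 (Multiset.mem_add.2 (Or.inl hx)))
  have hmaxW : ∀ x ∈ w.cycleType, x ≤ L := fun x hx =>
    hmax x (Multiset.mem_toFinset.2 (Multiset.mem_add.2 (Or.inr hx)))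
  have hLp : ∃ j, 1 ≤ j ∧ L = p ^ j := by
    rcases Multiset.mem_add.1 hLmem with h | h
    · exact hU L h
    · exact hW L h
  obtain ⟨a, ha1, hLa⟩ := hLp
  by_cases h5 : 5 ≤ L
  · rcases Multiset.mem_add.1 hLmem with h | h
    · exact main_big hp hp3 hLa h5 u w h hW hmaxW hw1
    · obtain ⟨g, hg, hb⟩ := main_big hp hp3 hLa h5 w u h hU hmaxU hu1
      refine ⟨g⁻¹, by rw [map_inv, hg]; rfl, ?_⟩
      have := bad_conj g⁻¹ (bad_swap hb)
      have e : g⁻¹ * (g * u * g⁻¹) * g⁻¹⁻¹ = u := by group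
      rwa [e] at this
  · -- then `L = 3`
    have hpp : p = 3 ∧ L = 3 := by
      have h1 : p ^ 1 ≤ p ^ a := Nat.pow_le_pow_right hp.pos ha1
      rw [pow_one, ← hLa] at h1
      have hp4 : p ≠ 4 := by
        rintro rfl
        exact absurd hp (by norm_num)
      have hp' : p = 3 := by omega
      subst hp'
      have ha2 : a = 1 := by
        by_contra hne
        have : 2 ≤ a := by omega
        have h2 : 3 ^ 2 ≤ 3 ^ a := Nat.pow_le_pow_right (by norm_num) this
        omega
      subst ha2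
      exact ⟨rfl, by simpa using hLa⟩
    obtain ⟨rfl, hL3⟩ := hpp
    have h3 : ∀ x, (∃ j, 1 ≤ j ∧ x = 3 ^ j) → x ≤ 3 → x = 3 := by
      rintro x ⟨j, hj, rfl⟩ hx
      have h1 : 3 ^ 1 ≤ 3 ^ j := Nat.pow_le_pow_right (by norm_num) hj
      omega
    exact main_three u w (fun x hx => h3 x (hU x hx) (hL3 ▸ hmaxU x hx))
      (fun x hx => h3 x (hW x hx) (hL3 ▸ hmaxW x hx)) hu1 hw1 hn

end Cfsg.Agent.Lib.AltPElt.Main
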